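import Groth.Agent.H06Conn.LiftIdempotent
import Mathlib.FieldTheory.Minpoly.IsConjRoot
import Mathlib.FieldTheory.PurelyInseparable.Basic

/-!
Connectedness of the closed fibre of a proper scheme over a discrete valuation ring with geometrically
connected dense generic fibre.
-/

set_option linter.style.haveILetI false

open AlgebraicGeometry CategoryTheory CategoryTheory.Limits TopologicalSpace Opposite

universe u

namespace Groth.Agent.H06Conn

set_option backward.isDefEq.respectTransparency false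

/-- An element fixed by all automorphisms has a power in the base field. -/
theorem exists_pow_mem_of_fixed {K : Type u} [Field K] (l : AlgebraicClosure K)
    (h : ∀ σ : AlgebraicClosure K ≃ₐ[K] AlgebraicClosure K, σ l = l) :
    ∃ (q : ℕ) (c : K), q ≠ 0 ∧ algebraMap K _ c = l ^ q := by
  classical
  have hint : IsIntegral K l := Algebra.IsIntegral.isIntegral l
  have hdeg : (minpoly K l).natSepDegree = 1 := by
    rw [Polynomial.natSepDegree_eq_of_isAlgClosed (E := AlgebraicClosure K), Finset.card_eq_one]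
    refine ⟨l, Finset.eq_singleton_iff_unique_mem.mpr ⟨?_, fun m hm => ?_⟩⟩
    · rw [Multiset.mem_toFinset, Polynomial.mem_aroots]
      exact ⟨minpoly.ne_zero hint, minpoly.aeval K l⟩
    · rw [Multiset.mem_toFinset, Polynomial.mem_aroots] at hm
      obtain ⟨σ, hσ⟩ := isConjRoot_iff_exists_algEquiv.mp ((isConjRoot_iff_aeval_eq_zero hint).mpr hm.2)
      have h2 := h σ.symm
      rw [← hσ, σ.symm_apply_apply] at h2
      rw [h2, ← hσ]
  obtain ⟨q, hq⟩ := ExpChar.exists K
  obtain ⟨n, c, hc⟩ := (minpoly.natSepDegree_eq_one_iff_pow_mem q).mp hdeg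
  exact ⟨q ^ n, c, pow_ne_zero _ (expChar_ne_zero K q), hc⟩

variable {A : Type u} [CommRing A] [IsDomain A] [IsDiscreteValuationRing A] {X : Scheme.{u}}
  (g : X ⟶ Spec (CommRingCat.of A))

/-- Scalars as global functions. -/
noncomputable def glob : A →+* Γ(X, ⊤) := ((Scheme.ΓSpecIso (CommRingCat.of A)).inv ≫ g.appTop).hom

/-- The closure of the generic fibre is everything. -/
def HasGenericGenerization : Prop :=
  ∀ x : X, ∃ η : X, η ⤳ x ∧ g η = (⟨⊥, Ideal.isPrime_bot⟩ : PrimeSpectrum A)

/-- A geometric generic fibre. -/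
noncomputable def genPt : Spec (CommRingCat.of (AlgebraicClosure (FractionRing A))) ⟶ Spec (CommRingCat.of A) :=
  Spec.map (CommRingCat.ofHom (algebraMap A (AlgebraicClosure (FractionRing A))))

theorem genPt_apply (p : Spec (CommRingCat.of (AlgebraicClosure (FractionRing A)))) :
    genPt p = (⟨⊥, Ideal.isPrime_bot⟩ : PrimeSpectrum A) := by
  refine PrimeSpectrum.ext ?_
  show Ideal.comap (algebraMap A (AlgebraicClosure (FractionRing A))) (p : PrimeSpectrum _).asIdeal = ⊥
  rw [show (p : PrimeSpectrum (AlgebraicClosure (FractionRing A))).asIdeal = ⊥ from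
    (eq_bot_or_eq_top _).resolve_right p.isPrime.ne_top, ← RingHom.ker_eq_comap_bot,
    ← RingHom.injective_iff_ker_eq_bot,
    IsScalarTower.algebraMap_eq A (FractionRing A) (AlgebraicClosure (FractionRing A))]
  exact (algebraMap (FractionRing A) _).injective.comp (IsFractionRing.injective A (FractionRing A))

theorem mem_basicOpen_glob_iff (c : A) (x : X) :
    x ∈ X.basicOpen (glob g c) ↔ c ∉ (g x : PrimeSpectrum A).asIdeal := by
  have : X.basicOpen (glob g c) = g ⁻¹ᵁ (Spec (CommRingCat.of A)).basicOpen ((Scheme.ΓSpecIso (CommRingCat.of A)).inv c) :=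
    (Scheme.preimage_basicOpen g _).symm
  rw [this]
  show g x ∈ (Spec (CommRingCat.of A)).basicOpen _ ↔ _
  rw [basicOpen_eq_of_affine]
  rfl

/-- A function vanishing on the generic fibre vanishes. -/
theorem eq_zero_of_generic [IsReduced X] (hgen : HasGenericGenerization g) {V : X.Opens} (w : Γ(X, V))
    (hw : ∀ η ∈ X.basicOpen w, g η ≠ (⟨⊥, Ideal.isPrime_bot⟩ : PrimeSpectrum A)) : w = 0 := by
  rw [← basicOpen_eq_bot_iff]
  refine TopologicalSpace.Opens.ext (Set.eq_empty_iff_forall_notMem.mpr fun x hx => ?_)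
  obtain ⟨η, hη, hgη⟩ := hgen x
  exact hw η (hη.mem_open (X.basicOpen w).2 hx) hgη

variable [UniversallyClosed g] [IsReduced X] [ConnectedSpace ↥(pullback g (genPt (A := A)))]

/-- Every global function has a power which is a scalar. -/
theorem exists_pow_eq_glob (hgen : HasGenericGenerization g) (u : Γ(X, ⊤)) :
    ∃ (q : ℕ) (c : A), q ≠ 0 ∧ u ^ q = glob g c := by
  classical
  let Ω := AlgebraicClosure (FractionRing A)
  let p₁ := pullback.fst g (genPt (A := A))
  let p₂ := pullback.snd g (genPt (A := A))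
  let cst : Ω →+* Γ(pullback g (genPt (A := A)), ⊤) := ((Scheme.ΓSpecIso (CommRingCat.of Ω)).inv ≫ p₂.appTop).hom
  have hnat : ∀ c, p₁.appTop (glob g c) = cst (algebraMap A Ω c) := by
    have h : (Scheme.ΓSpecIso (CommRingCat.of A)).inv ≫ g.appTop ≫ p₁.appTop =
        CommRingCat.ofHom (algebraMap A Ω) ≫ (Scheme.ΓSpecIso (CommRingCat.of Ω)).inv ≫ p₂.appTop := by
      rw [← Scheme.Hom.comp_appTop, pullback.condition, Scheme.Hom.comp_appTop, ← Category.assoc, ← Category.assoc]
      congr 1
      exact (Scheme.ΓSpecIso_inv_naturality _).symm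
    exact fun c => congrArg (fun φ : CommRingCat.of A ⟶ Γ(pullback g (genPt (A := A)), ⊤) => φ.hom c) h
  set v := p₁.appTop u
  obtain ⟨P, hPm, hP⟩ : ∃ P : Polynomial A, P.Monic ∧ P.eval₂ (glob g) u = 0 := by
    obtain ⟨P, hP, hPu⟩ := isIntegral_appTop_of_universallyClosed g u
    refine ⟨P.map (Scheme.ΓSpecIso (CommRingCat.of A)).hom.hom, hP.map _, ?_⟩
    rw [Polynomial.eval₂_map]
    have he : (glob g).comp (Scheme.ΓSpecIso (CommRingCat.of A)).hom.hom = g.appTop.hom := RingHom.ext fun z =>
      congrArg g.appTop.hom ((Scheme.ΓSpecIso (CommRingCat.of A)).commRingCatIsoToRingEquiv.symm_apply_apply z)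
    exact (congrArg (fun φ => Polynomial.eval₂ φ u P) he).trans hPu
  let R : Multiset Ω := (P.map (algebraMap A Ω)).roots
  have hprod : (R.map fun l => v - cst l).prod = 0 := by
    have h1 : (P.map (algebraMap A Ω)).eval₂ cst v = 0 := by
      rw [Polynomial.eval₂_map, show cst.comp (algebraMap A Ω) = (p₁.appTop.hom).comp (glob g) from
        RingHom.ext fun c => (hnat c).symm, ← Polynomial.hom_eval₂, hP, map_zero]
    rw [(IsAlgClosed.splits (P.map (algebraMap A Ω))).eq_prod_roots_of_monic (hPm.map _),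
      Polynomial.eval₂_multiset_prod, Multiset.map_map] at h1
    rwa [Multiset.map_congr rfl (fun l _ => by
      rw [Function.comp_apply, Polynomial.eval₂_sub, Polynomial.eval₂_X, Polynomial.eval₂_C])] at h1
  let Z : Ω → Set ↥(pullback g (genPt (A := A))) := fun l => ((pullback g (genPt (A := A))).basicOpen (v - cst l) : Set _)ᶜ
  have hdisj : ∀ l m z, z ∈ Z l → z ∈ Z m → l = m := by
    intro l m z hl hm
    by_contra hne
    have hu : IsUnit (cst (m - l)) := (isUnit_iff_ne_zero.mpr (sub_ne_zero.mpr (Ne.symm hne))).map cst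
    simp only [Z, Set.mem_compl_iff, SetLike.mem_coe] at hl hm
    rw [Scheme.mem_basicOpen_top] at hl hm
    have h2 := IsLocalRing.mem_maximalIdeal _ |>.mpr hl
    have h3 := IsLocalRing.mem_maximalIdeal _ |>.mpr hm
    have h4 := Submodule.sub_mem _ h2 h3
    rw [← map_sub, sub_sub_sub_cancel_left, ← map_sub] at h4
    exact (IsLocalRing.mem_maximalIdeal _).mp h4 (hu.map _)
  have hcover : ∀ z, ∃ l ∈ R.toFinset, z ∈ Z l := by
    intro z
    by_contra hne
    push Not at hne
    simp only [Z, Set.mem_compl_iff, SetLike.mem_coe, not_not, Scheme.mem_basicOpen_top, Multiset.mem_toFinset] at hne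
    have h0 : IsUnit ((pullback g (genPt (A := A))).presheaf.germ ⊤ z trivial (R.map fun l => v - cst l).prod) := by
      rw [map_multiset_prod, Multiset.map_map]
      exact Multiset.prod_induction (fun r => IsUnit r) _ (fun r s hr hs => hr.mul hs) isUnit_one fun r hr => by
        obtain ⟨l, hl, rfl⟩ := Multiset.mem_map.mp hr
        exact hne l hl
    rw [hprod, map_zero] at h0
    exact not_isUnit_zero h0
  obtain ⟨z₀⟩ : Nonempty ↥(pullback g (genPt (A := A))) := inferInstance
  obtain ⟨l, hl, hlz₀⟩ := hcover z₀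
  have hall : ∀ z, z ∈ Z l := by
    have hcl : IsClopen (Z l) := by
      refine ⟨(Scheme.basicOpen _ _).2.isClosed_compl, ?_⟩
      rw [← isClosed_compl_iff]
      have : (Z l)ᶜ = ⋃ m ∈ R.toFinset.erase l, Z m := by
        ext z
        simp only [Set.mem_compl_iff, Set.mem_iUnion, Finset.mem_erase, exists_prop]
        constructor
        · intro hz
          obtain ⟨m, hm, hmz⟩ := hcover z
          exact ⟨m, ⟨fun e => hz (e ▸ hmz), hm⟩, hmz⟩
        · rintro ⟨m, ⟨hm, -⟩, hmz⟩ hz
          exact hm (hdisj m l z hmz hz)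
      rw [this]
      exact Set.Finite.isClosed_biUnion (Finset.finite_toSet _) fun m _ => (Scheme.basicOpen _ _).2.isClosed_compl
    rw [(isClopen_iff.mp hcl).resolve_left (Set.nonempty_iff_ne_empty.mp ⟨z₀, hlz₀⟩)]
    exact fun _ => trivial
  obtain ⟨q, c₀, hq, hc₀⟩ := exists_pow_mem_of_fixed l fun σ => by
    let σ' : CommRingCat.of Ω ⟶ CommRingCat.of Ω := CommRingCat.ofHom σ.toRingHom
    have hσ : Spec.map σ' ≫ genPt (A := A) = genPt (A := A) := by
      rw [genPt, ← Spec.map_comp]
      refine congrArg Spec.map (CommRingCat.hom_ext (RingHom.ext fun b => ?_))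
      show σ (algebraMap A Ω b) = _
      rw [IsScalarTower.algebraMap_apply A (FractionRing A) Ω]
      exact σ.commutes _
    let s : pullback g (genPt (A := A)) ⟶ pullback g (genPt (A := A)) :=
      pullback.lift p₁ (p₂ ≫ Spec.map σ') (by rw [Category.assoc, hσ]; exact pullback.condition)
    have hs₁ : s.appTop v = v := by
      show (p₁.appTop ≫ s.appTop) u = _
      rw [← Scheme.Hom.comp_appTop, pullback.lift_fst]
    have hs₂ : ∀ m, s.appTop (cst m) = cst (σ m) := fun m => by
      have h : (Scheme.ΓSpecIso (CommRingCat.of Ω)).inv ≫ p₂.appTop ≫ s.appTop =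
          σ' ≫ (Scheme.ΓSpecIso (CommRingCat.of Ω)).inv ≫ p₂.appTop := by
        rw [← Scheme.Hom.comp_appTop, pullback.lift_snd, Scheme.Hom.comp_appTop, ← Category.assoc, ← Category.assoc]
        congr 1
        exact (Scheme.ΓSpecIso_inv_naturality _).symm
      exact congrArg (fun φ : CommRingCat.of Ω ⟶ Γ(pullback g (genPt (A := A)), ⊤) => φ.hom m) h
    refine (hdisj l (σ l) z₀ hlz₀ ?_).symm
    intro hz
    have h1 : s z₀ ∈ (pullback g (genPt (A := A))).basicOpen (v - cst l) := by
      have : z₀ ∈ s ⁻¹ᵁ (pullback g (genPt (A := A))).basicOpen (v - cst l) := by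
        rw [Scheme.preimage_basicOpen]
        show z₀ ∈ (pullback g (genPt (A := A))).basicOpen (s.appTop (v - cst l))
        rw [map_sub, hs₁, hs₂]
        exact hz
      exact this
    exact hall (s z₀) h1
  obtain ⟨c, rfl⟩ : ∃ c : A, algebraMap A (FractionRing A) c = c₀ := by
    refine IsIntegrallyClosed.isIntegral_iff.mp ?_
    refine (isIntegral_algebraMap_iff (algebraMap (FractionRing A) Ω).injective).mp ?_
    rw [hc₀]
    refine IsIntegral.pow ⟨P, hPm, ?_⟩ q
    rw [← Polynomial.eval_map]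
    exact (Polynomial.mem_roots'.mp (Multiset.mem_toFinset.mp hl)).2
  refine ⟨q, c, hq, sub_eq_zero.mp (eq_zero_of_generic g hgen _ fun η hη hgη => ?_)⟩
  obtain ⟨z, hz, -⟩ := Scheme.Pullback.exists_preimage_pullback (f := g) (g := genPt (A := A)) η
    (IsLocalRing.closedPoint Ω) (hgη.trans (genPt_apply _).symm)
  have h1 : z ∈ p₁ ⁻¹ᵁ X.basicOpen (u ^ q - glob g c) := show p₁ z ∈ _ from hz ▸ hη
  rw [Scheme.preimage_basicOpen] at h1
  change z ∈ (pullback g (genPt (A := A))).basicOpen (p₁.appTop (u ^ q - glob g c)) at h1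
  rw [map_sub, map_pow, hnat, IsScalarTower.algebraMap_apply A (FractionRing A) Ω, hc₀, map_pow] at h1
  obtain ⟨w, hw⟩ := sub_dvd_pow_sub_pow v (cst l) q
  rw [hw, Scheme.basicOpen_mul] at h1
  exact hall z h1.1

omit [UniversallyClosed g] in
/-- The closed fibre is preconnected. -/
theorem isPreconnected_closedFibre [IsProper g] (hgen : HasGenericGenerization g) :
    _root_.IsPreconnected (g ⁻¹' {(IsLocalRing.closedPoint A : Spec (CommRingCat.of A))}) := by
  letI : X.Over (Spec (CommRingCat.of A)) := ⟨g⟩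
  haveI : IsProper (X ↘ Spec (CommRingCat.of A)) := ‹IsProper g›
  obtain ⟨a, ha⟩ := IsDiscreteValuationRing.exists_irreducible A
  have hspec : spec X a = g ⁻¹' {(IsLocalRing.closedPoint A : Spec (CommRingCat.of A))} := by
    ext x
    rw [← notMem_basicOpen_sc_iff a ⊤ (x := x) trivial]
    have : LeadBC.sc A (⊤ : X.Opens) a = glob g a := by
      show X.presheaf.map (𝟙 _) (LeadFF.glob (X ↘ Spec (CommRingCat.of A)) a) = _
      rw [CategoryTheory.Functor.map_id]
      rfl
    rw [this, mem_basicOpen_glob_iff, not_not]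
    constructor
    · intro h
      refine PrimeSpectrum.ext (le_antisymm (IsLocalRing.le_maximalIdeal (g x : PrimeSpectrum A).isPrime.ne_top) ?_)
      show IsLocalRing.maximalIdeal A ≤ _
      rw [ha.maximalIdeal_eq, Ideal.span_singleton_le_iff_mem]
      exact h
    · intro h
      rw [Set.mem_preimage, Set.mem_singleton_iff] at h
      rw [h]
      exact (IsLocalRing.mem_maximalIdeal _).mpr ha.not_isUnit
  have hreg : ∀ V : X.Opens, IsAffineOpen V → IsRegular (LeadBC.sc A V a) := by
    intro V _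
    have key : ∀ w, LeadBC.sc A V a * w = 0 → w = 0 := fun w hw => by
      refine eq_zero_of_generic g hgen w fun η hη hgη => ?_
      have hηV : η ∈ V := X.basicOpen_le w hη
      have h1 : η ∈ X.basicOpen (LeadBC.sc A V a) := by
        by_contra h
        rw [notMem_basicOpen_sc_iff a V hηV, hspec, Set.mem_preimage, Set.mem_singleton_iff, hgη] at h
        exact IsDiscreteValuationRing.not_a_field A (congrArg PrimeSpectrum.asIdeal h).symm
      have h2 : η ∈ X.basicOpen (LeadBC.sc A V a * w) := by rw [Scheme.basicOpen_mul]; exact ⟨h1, hη⟩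
      rw [hw, Scheme.basicOpen_zero] at h2
      exact h2.elim
    exact ⟨isLeftRegular_iff_right_eq_zero_of_mul.mpr key,
      isRightRegular_iff_left_eq_zero_of_mul.mpr fun w hw => key w ((mul_comm _ w).trans hw)⟩
  rw [isPreconnected_closed_iff]
  intro t t' ht ht' hcov ⟨x, hx, hxt⟩ ⟨x', hx', hxt'⟩
  by_contra hne
  rw [Set.not_nonempty_iff_eq_empty] at hne
  have hC' : IsClosed (spec X a \ t) := by
    have : spec X a \ t = spec X a ∩ t' := by
      rw [hspec]
      exact Set.Subset.antisymm (fun z hz => ⟨hz.1, (hcov hz.1).resolve_left hz.2⟩)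
        fun z hz => ⟨hz.1, fun h => (hne ▸ (⟨hz.1, h, hz.2⟩ : z ∈ _ ∩ (t ∩ t')) : z ∈ (∅ : Set X))⟩
    rw [this]
    exact (isClosed_compl_iff.mpr (X.basicOpen _).2).inter ht'
  obtain ⟨G, hG⟩ := exists_global a t hreg ((isClosed_compl_iff.mpr (X.basicOpen _).2).inter ht) hC'
  obtain ⟨q, c, hq, hGc⟩ := exists_pow_eq_glob g hgen G
  have hmem : ∀ z ∈ g ⁻¹' {(IsLocalRing.closedPoint A : Spec (CommRingCat.of A))}, z ∈ t ↔ IsUnit c := by
    intro z hz
    rw [← hG z (hspec.symm ▸ hz), ← X.basicOpen_pow G (Nat.pos_of_ne_zero hq), hGc, mem_basicOpen_glob_iff]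
    rw [Set.mem_preimage, Set.mem_singleton_iff] at hz
    rw [hz]
    exact IsLocalRing.notMem_maximalIdeal
  have ht'x : x' ∈ t := (hmem x' hx').mpr ((hmem x hx).mp hxt)
  exact (hne ▸ (⟨hx', ht'x, hxt'⟩ : x' ∈ _ ∩ (t ∩ t')) : x' ∈ (∅ : Set X))

end Groth.Agent.H06Conn
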