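import Groth.Agent.H06EGA15.SplitPoints
import Groth.Agent.H06Geom.Components
import Mathlib.AlgebraicGeometry.Noetherian
import Mathlib.Topology.JacobsonSpace

/-!
A finite extension over which the connected components reach their geometric number.
-/

open CategoryTheory CategoryTheory.Limits AlgebraicGeometry TopologicalSpace Topology IsLocalRing

universe u

namespace Groth.Agent.H06Conn

set_option backward.isDefEq.respectTransparency false
set_option linter.style.haveILetI false

/-- A noetherian space has finitely many connected components. -/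
theorem finite_connectedComponents (T : Type*) [TopologicalSpace T] [NoetherianSpace T] :
    Finite (_root_.ConnectedComponents T) := by
  haveI : Finite ↥(irreducibleComponents T) := (NoetherianSpace.finite_irreducibleComponents (α := T)).to_subtype
  refine Finite.of_surjective (fun Z : irreducibleComponents T => (Z.2.1.nonempty.some : _root_.ConnectedComponents T)) ?_
  intro c
  obtain ⟨x, rfl⟩ := ConnectedComponents.surjective_coe c
  refine ⟨⟨irreducibleComponent x, irreducibleComponent_mem_irreducibleComponents x⟩, ?_⟩
  rw [ConnectedComponents.coe_eq_coe']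
  exact (isIrreducible_irreducibleComponent (x := x)).isConnected.2.subset_connectedComponent
    mem_irreducibleComponent (Set.Nonempty.some_mem _)

variable {X Y : Scheme.{u}} (f : X ⟶ Y) [LocallyOfFiniteType f] [QuasiCompact f]

/-- The geometric fibre has finitely many connected components. -/
theorem finite_connectedComponents_fibre {k : Type u} [Field k] (a : Spec (CommRingCat.of k) ⟶ Y) :
    Finite (_root_.ConnectedComponents ↥(pullback f a)) := by
  haveI : IsNoetherianRing (CommRingCat.of k) := inferInstanceAs (IsNoetherianRing k)
  haveI : IsLocallyNoetherian (pullback f a) := LocallyOfFiniteType.isLocallyNoetherian (pullback.snd f a)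
  haveI : CompactSpace ↥(pullback f a) := QuasiCompact.compactSpace_of_compactSpace (pullback.snd f a)
  haveI : IsNoetherian (pullback f a) := {}
  exact finite_connectedComponents _

/-- Some finite extension reaches the geometric number of connected components. -/
theorem exists_finite_connected {E : Type u} [Field E] (a : Spec (CommRingCat.of E) ⟶ Y) :
    ∃ (F : Type u) (_ : Field F) (_ : Algebra E F), FiniteDimensional E F ∧
      MoreMor.nGeomConnComp f (a (closedPoint E)) ≤
        ENat.card (_root_.ConnectedComponents ↥(pullback f (Spec.map (CommRingCat.ofHom (algebraMap E F)) ≫ a))) := by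
  classical
  let Ω := AlgebraicClosure E
  let b : Spec (CommRingCat.of Ω) ⟶ Spec (CommRingCat.of E) := Spec.map (CommRingCat.ofHom (algebraMap E Ω))
  let Z := pullback f a
  let p : Z ⟶ Spec (CommRingCat.of E) := pullback.snd f a
  haveI : LocallyOfFiniteType p := inferInstanceAs (LocallyOfFiniteType (pullback.snd f a))
  haveI : QuasiCompact p := inferInstanceAs (QuasiCompact (pullback.snd f a))
  haveI : Finite (_root_.ConnectedComponents ↥(pullback p b)) := finite_connectedComponents_fibre p b
  haveI : JacobsonSpace ↥(Spec (CommRingCat.of Ω)) := inferInstanceAs (JacobsonSpace (PrimeSpectrum Ω))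
  haveI : JacobsonSpace ↥(pullback p b) := LocallyOfFiniteType.jacobsonSpace (pullback.snd p b)
  have hq : ∀ c : _root_.ConnectedComponents ↥(pullback p b), ∃ q : ↥(pullback p b),
      IsClosed ({q} : Set ↥(pullback p b)) ∧ ConnectedComponents.mk q = c := by
    intro c
    obtain ⟨x, rfl⟩ := ConnectedComponents.surjective_coe c
    obtain ⟨q, hq, hq'⟩ := nonempty_inter_closedPoints (⟨x, mem_connectedComponent⟩ :
      (connectedComponent x).Nonempty) isClosed_connectedComponent.isLocallyClosed
    exact ⟨q, hq', ConnectedComponents.coe_eq_coe'.mpr hq⟩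
  choose q hqc hq using hq
  let a' : _root_.ConnectedComponents ↥(pullback p b) → (Spec (CommRingCat.of Ω) ⟶ pullback p b) := fun c =>
    pointOfClosedPoint (pullback.snd p b) (q c) (hqc c)
  let s : _root_.ConnectedComponents ↥(pullback p b) → (Spec (CommRingCat.of Ω) ⟶ Z) := fun c => a' c ≫ pullback.fst p b
  have hs : ∀ c, s c ≫ p = b := fun c => by
    rw [Category.assoc, pullback.condition, ← Category.assoc, pointOfClosedPoint_comp, Category.id_comp]
  have hσ : ∀ c, ∃ (σ : Z.residueField (pullback.fst p b (q c)) ⟶ CommRingCat.of Ω),
      Spec.map σ ≫ Z.fromSpecResidueField (pullback.fst p b (q c)) = s c := by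
    intro c
    have hpt : s c (closedPoint Ω) = pullback.fst p b (q c) := by
      rw [Scheme.Hom.comp_apply]
      exact congrArg _ (pointOfClosedPoint_apply _ _ _ _)
    have aux : ∀ (z : Z) (t : Spec (CommRingCat.of Ω) ⟶ Z), t (closedPoint Ω) = z →
        ∃ σ : Z.residueField z ⟶ CommRingCat.of Ω, Spec.map σ ≫ Z.fromSpecResidueField z = t := by
      rintro z t rfl
      exact ⟨_, Scheme.descResidueField_stalkClosedPointTo_fromSpecResidueField Ω Z t⟩
    exact aux _ _ hpt
  choose σ hσ using hσ
  have hS : ∀ c, ∃ S : Finset Ω, ∀ x, σ c x ∈ IntermediateField.adjoin E (S : Set Ω) := by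
    intro c
    obtain ⟨ρ, hρ⟩ := Spec.map_surjective (Z.fromSpecResidueField (pullback.fst p b (q c)) ≫ p)
    haveI : UniversallyClosed b := H06Desc.universallyClosed_algebraicClosure (k := E)
    have hz : IsClosed ({pullback.fst p b (q c)} : Set Z) := by
      have h := (pullback.fst p b).isClosedMap _ (hqc c)
      rwa [Set.image_singleton] at h
    haveI : IsClosedImmersion (Z.fromSpecResidueField (pullback.fst p b (q c))) :=
      isClosed_singleton_iff_isClosedImmersion.mp hz
    haveI : LocallyOfFiniteType (Spec.map ρ) := hρ ▸ inferInstance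
    have hfin : ρ.hom.Finite := by
      have hft : ρ.hom.FiniteType := (HasRingHomProperty.Spec_iff (P := @LocallyOfFiniteType)).mp inferInstance
      letI := ρ.hom.toAlgebra
      haveI : Algebra.FiniteType E (Z.residueField (pullback.fst p b (q c))) := hft
      show Module.Finite E (Z.residueField (pullback.fst p b (q c)))
      exact finite_of_finite_type_of_isJacobsonRing E _
    letI := ρ.hom.toAlgebra
    haveI : Module.Finite E (Z.residueField (pullback.fst p b (q c))) := hfin
    have hρσ : ρ ≫ σ c = CommRingCat.ofHom (algebraMap E Ω) :=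
      Spec.map_injective (by rw [Spec.map_comp, hρ, ← Category.assoc, hσ, hs])
    let τ : Z.residueField (pullback.fst p b (q c)) →ₐ[E] Ω :=
      { (σ c).hom with commutes' := fun x => congrArg (fun φ : CommRingCat.of E ⟶ CommRingCat.of Ω => φ.hom x) hρσ }
    obtain ⟨T, hT⟩ := Module.Finite.fg_top (R := E) (M := Z.residueField (pullback.fst p b (q c)))
    refine ⟨T.image τ, fun x => ?_⟩
    have hx : x ∈ Submodule.span E (T : Set (Z.residueField (pullback.fst p b (q c)))) := hT ▸ Submodule.mem_top
    show τ x ∈ _
    refine Submodule.span_induction (fun y hy => ?_) ?_ ?_ ?_ hx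
    · exact IntermediateField.subset_adjoin E _ (Finset.mem_image_of_mem τ hy)
    · rw [map_zero]; exact zero_mem _
    · intro u v _ _ hu hv; rw [map_add]; exact add_mem hu hv
    · intro r u _ hu
      rw [map_smul]
      exact (IntermediateField.adjoin E _).smul_mem hu
  choose S hS using hS
  have := Fintype.ofFinite (_root_.ConnectedComponents ↥(pullback p b))
  let L : IntermediateField E Ω := IntermediateField.adjoin E ((Finset.univ.biUnion S : Finset Ω) : Set Ω)
  haveI : FiniteDimensional E L :=
    IntermediateField.finiteDimensional_adjoin fun x _ => Algebra.IsIntegral.isIntegral x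
  have hL : ∀ c x, σ c x ∈ L := fun c x => IntermediateField.adjoin.mono E _ _
    (Finset.coe_subset.mpr (Finset.subset_biUnion_of_mem S (Finset.mem_univ c))) (hS c x)
  refine ⟨L, inferInstance, inferInstance, inferInstance, ?_⟩
  let j : Spec (CommRingCat.of L) ⟶ Spec (CommRingCat.of E) := Spec.map (CommRingCat.ofHom (algebraMap E L))
  let i : Spec (CommRingCat.of Ω) ⟶ Spec (CommRingCat.of L) := Spec.map (CommRingCat.ofHom (algebraMap L Ω))
  have hij : i ≫ j = b := by
    rw [← Spec.map_comp, ← CommRingCat.ofHom_comp]
    rfl
  let t : _root_.ConnectedComponents ↥(pullback p b) → (Spec (CommRingCat.of L) ⟶ Z) := fun c =>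
    Spec.map (CommRingCat.ofHom ((σ c).hom.codRestrict L.toSubfield.toSubring (hL c))) ≫ Z.fromSpecResidueField _
  have hit : ∀ c, i ≫ t c = s c := fun c => by
    rw [← Category.assoc, ← Spec.map_comp, ← hσ]
    rfl
  have htp : ∀ c, t c ≫ p = j := fun c => by
    obtain ⟨r, hr⟩ := Spec.map_surjective (t c ≫ p)
    rw [← hr]
    refine congrArg Spec.map (CommRingCat.hom_ext (RingHom.ext fun x => (algebraMap L Ω).injective ?_))
    have h : r ≫ CommRingCat.ofHom (algebraMap L Ω) = CommRingCat.ofHom (algebraMap E Ω) :=
      Spec.map_injective (by rw [Spec.map_comp, hr, ← Category.assoc, hit, hs])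
    exact (congrArg (fun φ : CommRingCat.of E ⟶ CommRingCat.of Ω => φ.hom x) h).trans
      (IsScalarTower.algebraMap_apply E L Ω x)
  let sec : _root_.ConnectedComponents ↥(pullback p b) → (Spec (CommRingCat.of L) ⟶ pullback p j) := fun c =>
    pullback.lift (t c) (𝟙 _) (by rw [htp, Category.id_comp])
  let m : pullback p b ⟶ pullback p j :=
    pullback.lift (pullback.fst p b) (pullback.snd p b ≫ i) (by rw [Category.assoc, hij]; exact pullback.condition)
  have hm : ∀ c, m (q c) = sec c (closedPoint L) := by
    intro c
    have e : a' c ≫ m = i ≫ sec c := pullback.hom_ext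
      (by rw [Category.assoc, pullback.lift_fst, Category.assoc, pullback.lift_fst, hit])
      (by rw [Category.assoc, pullback.lift_snd, Category.assoc, pullback.lift_snd, ← Category.assoc,
        pointOfClosedPoint_comp, Category.id_comp, Category.comp_id])
    have h := congrArg (fun φ : Spec (CommRingCat.of Ω) ⟶ pullback p j => φ (closedPoint Ω)) e
    rw [Scheme.Hom.comp_apply, Scheme.Hom.comp_apply] at h
    rw [show a' c (closedPoint Ω) = q c from pointOfClosedPoint_apply _ _ _ _] at h
    exact h.trans (congrArg (sec c) (Subsingleton.elim (α := PrimeSpectrum L) _ _))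
  let w : _root_.ConnectedComponents ↥(pullback p b) → _root_.ConnectedComponents ↥(pullback p j) := fun c =>
    ConnectedComponents.mk (sec c (closedPoint L))
  have hconn : ∀ c, _root_.IsPreconnected (m ⁻¹' connectedComponent (sec c (closedPoint L))) := by
    intro c
    haveI : GeometricallyConnected (sec c ≫ FBase.bcStr p L) := by
      rw [show sec c ≫ FBase.bcStr p L = 𝟙 _ from pullback.lift_snd _ _ _]
      refine ⟨fun K _ y Z fst snd h => ?_⟩
      haveI : IsIso snd := h.isIso_snd_of_isIso
      exact snd.homeomorph.connectedSpace_iff.mpr (inferInstanceAs (ConnectedSpace (PrimeSpectrum K)))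
    have h := H06Geom.isConnected_preimage_connectedComponent_of_source (k := L) (FBase.bcStr p L) (sec c) (closedPoint L) Ω
    let e : pullback (pullback.snd p j) i ≅ pullback p b :=
      pullbackLeftPullbackSndIso p j i ≪≫ pullback.congrHom rfl hij
    have he : e.hom ≫ m = pullback.fst (pullback.snd p j) i := pullback.hom_ext
      (by simp [e, m])
      (by simp [e, m, pullback.condition])
    have hset : m ⁻¹' connectedComponent (sec c (closedPoint L)) =
        e.hom '' ((FBase.bcπ (FBase.bcStr p L) Ω).base ⁻¹' connectedComponent (sec c (closedPoint L))) := by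
      ext z
      obtain ⟨z', rfl⟩ := e.hom.homeomorph.surjective z
      rw [show e.hom.homeomorph z' = e.hom z' from rfl,
        (show Function.Injective e.hom from e.hom.homeomorph.injective).mem_set_image,
        Set.mem_preimage, Set.mem_preimage, ← Scheme.Hom.comp_apply, he]
      rfl
    rw [hset]
    exact h.2.image _ e.hom.continuous.continuousOn
  have hw : Function.Injective w := fun c d h => by
    rw [← hq c, ← hq d, ConnectedComponents.coe_eq_coe']
    have hcd : sec c (closedPoint L) ∈ connectedComponent (sec d (closedPoint L)) := ConnectedComponents.coe_eq_coe'.mp h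
    exact (hconn d).subset_connectedComponent
      (show q d ∈ m ⁻¹' _ from (hm d).symm ▸ mem_connectedComponent)
      (show m (q c) ∈ connectedComponent (sec d (closedPoint L)) by rw [hm c]; exact hcd)
  calc MoreMor.nGeomConnComp f (a (closedPoint E))
      = MoreMor.nGeomConnComp f ((b ≫ a) (closedPoint Ω)) := by
        rw [Scheme.Hom.comp_apply]; congr 2; exact Subsingleton.elim (α := PrimeSpectrum E) _ _
    _ = ENat.card (_root_.ConnectedComponents ↥(pullback f (b ≫ a))) := (H7Flat.GeomInt.nGeom_eq f (b ≫ a) rfl).2.symm
    _ = ENat.card (_root_.ConnectedComponents ↥(pullback p b)) :=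
        (H7Flat.GeomInt.card_connectedComponents_congr (pullbackLeftPullbackSndIso f a b).hom.homeomorph).symm
    _ ≤ ENat.card (_root_.ConnectedComponents ↥(pullback p j)) := ENat.card_le_card_of_injective hw
    _ = _ := H7Flat.GeomInt.card_connectedComponents_congr (pullbackLeftPullbackSndIso f a j).hom.homeomorph

end Groth.Agent.H06Conn
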