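import Groth.Agent.H06Conn.ProperCount
import Groth.Agent.H7Flat.ConnGeneric
import Groth.Agent.H17.Topology
import Mathlib.RingTheory.Flat.TorsionFree

/-!
When the closed fibre is reduced it has at least as many components as the generic fibre.
-/

open CategoryTheory CategoryTheory.Limits AlgebraicGeometry TopologicalSpace Topology IsLocalRing

universe u

namespace Groth.Agent.H06Conn

set_option backward.isDefEq.respectTransparency false
set_option linter.style.haveILetI false

/-- A geometrically reduced fibre has reduced base changes to fields. -/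
theorem isReduced_pullback_of_geometricallyReduced {X Y : Scheme.{u}} (f : X ⟶ Y) (y : Y)
    (hred : GeometricallyReduced (f.fiberToSpecResidueField y)) {k : Type u} [Field k]
    (a : Spec (CommRingCat.of k) ⟶ Y) (ha : a (closedPoint k) = y) : IsReduced (pullback f a) := by
  obtain ⟨⟨z, θ⟩, rfl⟩ := (Scheme.SpecToEquivOfField k Y).symm.surjective a
  change (Spec.map θ ≫ Y.fromSpecResidueField z) (closedPoint k) = y at ha
  rw [Scheme.Hom.comp_apply, Scheme.fromSpecResidueField_apply] at ha
  subst ha
  haveI : IsReduced (pullback (f.fiberToSpecResidueField z) (Spec.map θ)) :=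
    pullback_of_geometrically (GeometricallyReduced.geometrically_isReduced (f := f.fiberToSpecResidueField z)) k (Spec.map θ)
  haveI : IsReduced (pullback (pullback.snd f (Y.fromSpecResidueField z)) (Spec.map θ)) :=
    ‹IsReduced (pullback (f.fiberToSpecResidueField z) (Spec.map θ))›
  exact isReduced_of_isOpenImmersion (pullbackLeftPullbackSndIso f (Y.fromSpecResidueField z) (Spec.map θ)).inv

variable {A : Type u} [CommRing A] [IsDomain A] [IsDiscreteValuationRing A] {X : Scheme.{u}}
  (q : X ⟶ Spec (CommRingCat.of A))

/-- A reduced scheme over a DVR without components in the closed fibre is flat. -/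
theorem flat_of_hasGenericGenerization [IsReduced X] (hgen : HasGenericGenerization q) : Flat q := by
  rw [HasRingHomProperty.iff_of_source_openCover (P := @Flat) X.affineCover]
  intro i
  set j := X.affineCover.f i
  haveI : IsReduced (X.affineCover.X i) := isReduced_of_isOpenImmersion j
  have hgen' : HasGenericGenerization (j ≫ q) := by
    intro u
    obtain ⟨η, hη, hqη⟩ := hgen (j u)
    obtain ⟨η', rfl⟩ := hη.mem_open j.isOpenEmbedding.isOpen_range ⟨u, rfl⟩
    exact ⟨η', j.isOpenEmbedding.isInducing.specializes_iff.mp hη, hqη⟩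
  have key : (glob (j ≫ q)).Flat := by
    letI := (glob (j ≫ q)).toAlgebra
    show Module.Flat A Γ(X.affineCover.X i, ⊤)
    rw [Module.Flat.flat_iff_torsion_eq_bot_of_isBezout, ← Submodule.isTorsionFree_iff_torsion_eq_bot,
      Module.isTorsionFree_iff_smul_eq_zero]
    intro a w haw
    change glob (j ≫ q) a * w = 0 at haw
    refine or_iff_not_imp_left.mpr fun ha => eq_zero_of_generic (j ≫ q) hgen' w fun η hη hqη => ?_
    have h1 : η ∈ (X.affineCover.X i).basicOpen (glob (j ≫ q) a) := by
      rw [mem_basicOpen_glob_iff, hqη]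
      exact fun h => ha (Ideal.mem_bot.mp h)
    have h2 : η ∈ (X.affineCover.X i).basicOpen (glob (j ≫ q) a * w) := by
      rw [Scheme.basicOpen_mul]; exact ⟨h1, hη⟩
    rw [haw, Scheme.basicOpen_zero] at h2
    exact h2.elim
  have he : (j ≫ q).appTop.hom = (glob (j ≫ q)).comp (Scheme.ΓSpecIso (CommRingCat.of A)).hom.hom :=
    RingHom.ext fun z => (congrArg (j ≫ q).appTop.hom
      ((Scheme.ΓSpecIso (CommRingCat.of A)).commRingCatIsoToRingEquiv.symm_apply_apply z)).symm
  rw [he]
  exact (RingHom.Flat.of_bijective (ConcreteCategory.bijective_of_isIso (Scheme.ΓSpecIso (CommRingCat.of A)).hom)).comp key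

/-- With a reduced closed fibre the generic fibre has no more components. -/
theorem card_genericFibre_le [IsProper q] (hred : IsReduced (q.fiber (closedPoint A : Spec (CommRingCat.of A))))
    (ho : ∀ x : X, q x = (closedPoint A : Spec (CommRingCat.of A)) → EGA43.IsOpenAt q.base x) :
    ENat.card (_root_.ConnectedComponents ↥(pullback q (genFrac (A := A)))) ≤
      ENat.card (_root_.ConnectedComponents ↥(pullback q (closedι (A := A)))) := by
  classical
  set c : Spec (CommRingCat.of A) := closedPoint A
  haveI : IsNoetherianRing (CommRingCat.of A) := inferInstanceAs (IsNoetherianRing A)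
  haveI : IsLocallyNoetherian X := LocallyOfFiniteType.isLocallyNoetherian q
  haveI : CompactSpace X := QuasiCompact.compactSpace_of_compactSpace q
  haveI : IsNoetherian X := {}
  let i := (Scheme.IdealSheafData.vanishingIdeal ⟨(Set.univ : Set X), isClosed_univ⟩).subschemeι
  haveI : IsReduced (Scheme.IdealSheafData.vanishingIdeal ⟨(Set.univ : Set X), isClosed_univ⟩).subscheme :=
    H17.isReduced_vanishingIdeal_subscheme _
  haveI : Surjective i := ⟨fun x => by
    have : Set.range i = Set.univ := by
      rw [Scheme.IdealSheafData.range_subschemeι, Scheme.IdealSheafData.coe_support_vanishingIdeal]; rfl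
    exact this.ge trivial⟩
  let q' := i ≫ q
  set ιG := pullback.fst q (genFrac (A := A))
  set ιS := pullback.fst q (closedι (A := A))
  have hιS : Set.range ιS = q ⁻¹' {c} := by
    rw [Scheme.Pullback.range_fst]
    congr 1
    exact Set.eq_singleton_iff_unique_mem.mpr ⟨⟨closedPoint _, closedι_apply _⟩, by rintro _ ⟨p, rfl⟩; exact closedι_apply p⟩
  have hιG : Set.range ιG = q ⁻¹' {((⟨⊥, Ideal.isPrime_bot⟩ : PrimeSpectrum A) : Spec (CommRingCat.of A))} := by
    rw [Scheme.Pullback.range_fst]
    congr 1
    exact Set.eq_singleton_iff_unique_mem.mpr ⟨⟨closedPoint _, genFrac_apply _⟩, by rintro _ ⟨p, rfl⟩; exact genFrac_apply p⟩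
  have hgenX : HasGenericGenerization q := by
    intro x
    rcases eq_or_ne ((q x : PrimeSpectrum A).asIdeal) ⊥ with h | h
    · exact ⟨x, specializes_rfl, PrimeSpectrum.ext h⟩
    · have hx : q x = c := PrimeSpectrum.ext (IsLocalRing.eq_maximalIdeal ((q x : PrimeSpectrum A).isPrime.isMaximal h))
      obtain ⟨z, hz⟩ : ∃ z, ιG z ⤳ x := by
        haveI : QuasiCompact (genFrac (A := A)) := inferInstance
        refine H05EGA4.exists_specializes_of_mem_closure_range ιG (mem_closure_iff_nhds.mpr fun O hO => ?_)
        obtain ⟨O', hO', hO'o, hcl⟩ := mem_nhds_iff.mp (hx ▸ ho x hx O hO)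
        obtain ⟨y, hy, hqy⟩ := hO' ((IsLocalRing.specializes_closedPoint
          (genFrac (A := A) (closedPoint _) : PrimeSpectrum A)).mem_open hO'o hcl)
        obtain ⟨z, hz, -⟩ := Scheme.Pullback.exists_preimage_pullback (f := q) (g := genFrac (A := A)) y _ hqy
        exact ⟨y, hy, z, hz⟩
      exact ⟨ιG z, hz, hιG.le ⟨z, rfl⟩⟩
  have hgen' : HasGenericGenerization q' := by
    intro u
    obtain ⟨η, hη, hqη⟩ := hgenX (i u)
    obtain ⟨η', rfl⟩ := i.surjective η
    exact ⟨η', i.isClosedEmbedding.isInducing.specializes_iff.mp hη, hqη⟩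
  haveI : Flat q' := flat_of_hasGenericGenerization q' hgen'
  have hred' : IsReduced (q'.fiber c) := by
    let e : pullback i (q.fiberι c) ≅ q'.fiber c := pullbackRightPullbackFstIso q _ i
    haveI : IsReduced (q.fiber c) := hred
    haveI : IsIso (pullback.snd i (q.fiberι c)) := isIso_of_isClosedImmersion_of_surjective _
    haveI : IsReduced (pullback i (q.fiberι c)) := isReduced_of_isOpenImmersion (pullback.snd i (q.fiberι c))
    exact isReduced_of_isOpenImmersion e.inv
  have hpre : ∀ x₀, _root_.IsPreconnected (ιG ⁻¹' connectedComponent x₀) := by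
    intro x₀
    obtain ⟨u₀, rfl⟩ := i.surjective x₀
    set D : (Scheme.IdealSheafData.vanishingIdeal ⟨(Set.univ : Set X), isClosed_univ⟩).subscheme.Opens := ⟨i ⁻¹' connectedComponent (i u₀), (H17.isOpen_connectedComponent (i u₀)).preimage i.continuous⟩
    haveI : ConnectedSpace ↥D.1 := isConnected_iff_connectedSpace.mp
      (isConnected_connectedComponent.preimage_of_isClosedMap i.isClosedEmbedding.injective i.isClosedMap
        (fun w _ => i.surjective w))
    haveI : ConnectedSpace ↥(Scheme.Opens.toScheme D) := ‹ConnectedSpace ↥D.1›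
    have hredD : IsReduced ((D.ι ≫ q').fiber c) := by
      let e : pullback D.ι (q'.fiberι c) ≅ (D.ι ≫ q').fiber c := pullbackRightPullbackFstIso q' _ D.ι
      haveI : IsReduced (q'.fiber c) := hred'
      haveI : IsReduced (pullback D.ι (q'.fiberι c)) := isReduced_of_isOpenImmersion (pullback.snd D.ι (q'.fiberι c))
      exact isReduced_of_isOpenImmersion e.inv
    haveI := H7Flat.connectedSpace_fiber_generic (D.ι ≫ q') hredD
    let m := (D.ι ≫ q').fiberι ((⟨⊥, Ideal.isPrime_bot⟩ : PrimeSpectrum A) : Spec (CommRingCat.of A)) ≫ D.ι ≫ i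
    have hm : ιG '' (ιG ⁻¹' connectedComponent (i u₀)) = Set.range m := by
      rw [Set.image_preimage_eq_inter_range, hιG, Scheme.Hom.comp_base, TopCat.coe_comp, Set.range_comp,
        Scheme.Hom.range_fiberι]
      ext x
      constructor
      · rintro ⟨hx, hqx⟩
        obtain ⟨u, rfl⟩ := i.surjective x
        exact ⟨⟨u, hx⟩, hqx, rfl⟩
      · rintro ⟨⟨u, hu⟩, hqu, rfl⟩
        exact ⟨hu, hqu⟩
    rw [← ιG.isEmbedding.isInducing.isPreconnected_image, hm]
    exact isPreconnected_range m.continuous
  have hsp : ∀ z : ↥(pullback q (genFrac (A := A))), ∃ s : ↥(pullback q (closedι (A := A))), ιG z ⤳ ιS s := by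
    intro z
    obtain ⟨x, hx, hqx⟩ := (IsLocalRing.specializes_closedPoint (q (ιG z) : PrimeSpectrum A)).mem_closed
      (q.isClosedMap _ (isClosed_closure (s := ({ιG z} : Set X)))) ⟨ιG z, subset_closure rfl, rfl⟩
    obtain ⟨s, rfl⟩ := hιS.ge hqx
    exact ⟨s, specializes_iff_mem_closure.mpr hx⟩
  choose s hs using hsp
  have hcomp : ∀ z, connectedComponent (ιG z) = connectedComponent (ιS (s z)) := fun z =>
    (connectedComponent_eq (isClosed_connectedComponent.closure_subset_iff.mpr
      (Set.singleton_subset_iff.mpr mem_connectedComponent) (specializes_iff_mem_closure.mp (hs z))))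
  refine ENat.card_le_card_of_injective
    (f := fun d => ConnectedComponents.mk (s (ConnectedComponents.surjective_coe d).choose)) fun d d' h => ?_
  set z := (ConnectedComponents.surjective_coe d).choose
  set z' := (ConnectedComponents.surjective_coe d').choose
  rw [← (ConnectedComponents.surjective_coe d).choose_spec, ← (ConnectedComponents.surjective_coe d').choose_spec]
  have h1 : ιS (s z) ∈ connectedComponent (ιS (s z')) :=
    (ιS.continuous.mapsTo_connectedComponent (s z')) (ConnectedComponents.coe_eq_coe'.mp h)
  have h2 : connectedComponent (ιG z) = connectedComponent (ιG z') := by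
    rw [hcomp, hcomp]; exact (connectedComponent_eq h1).symm
  exact ConnectedComponents.coe_eq_coe'.mpr ((hpre (ιG z')).subset_connectedComponent
    (show z' ∈ ιG ⁻¹' _ from mem_connectedComponent)
    (show ιG z ∈ connectedComponent (ιG z') from h2 ▸ mem_connectedComponent))

/-- For a proper morphism, universally open with geometrically reduced fibre, the number does not rise under generization. -/
theorem nGeomConnComp_ge_of_specializes {X Y : Scheme.{u}} [IsLocallyNoetherian Y] (f : X ⟶ Y) [IsProper f]
    {y' y : Y} (h : y' ⤳ y) (hu : ∀ x : X, f x = y → EGA43.IsUnivOpenAt f x)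
    (hred : GeometricallyReduced (f.fiberToSpecResidueField y)) :
    MoreMor.nGeomConnComp f y' ≤ MoreMor.nGeomConnComp f y := by
  rcases eq_or_ne y' y with rfl | hne
  · exact le_rfl
  obtain ⟨A, _, _, _, g, hg, hg', -, hy'⟩ := exists_splitting_dvr f h hne
  let q := pullback.snd f g
  have ho : ∀ x : ↥(pullback f g), q x = (closedPoint A : Spec (CommRingCat.of A)) → EGA43.IsOpenAt q.base x := by
    intro x hx
    refine H06EGA14.isOpenAt_of_isPullback (hu (pullback.fst f g x) ?_) (IsPullback.of_hasPullback f g) x rfl
    rw [← Scheme.Hom.comp_apply, pullback.condition, Scheme.Hom.comp_apply, show pullback.snd f g x = _ from hx, hg]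
  set c : Spec (CommRingCat.of A) := closedPoint A
  have hqred : IsReduced (q.fiber c) := by
    haveI := isReduced_pullback_of_geometricallyReduced f y hred ((Spec (CommRingCat.of A)).fromSpecResidueField c ≫ g)
      (by rw [Scheme.Hom.comp_apply]; exact (congrArg g (Scheme.fromSpecResidueField_apply _ _)).trans hg)
    exact isReduced_of_isOpenImmersion (pullbackLeftPullbackSndIso f g ((Spec (CommRingCat.of A)).fromSpecResidueField c)).hom
  calc MoreMor.nGeomConnComp f y'
      ≤ ENat.card (_root_.ConnectedComponents ↥(pullback f (genFrac ≫ g))) := hy'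
    _ = ENat.card (_root_.ConnectedComponents ↥(pullback q (genFrac (A := A)))) :=
        (H7Flat.GeomInt.card_connectedComponents_congr (pullbackLeftPullbackSndIso f g genFrac).hom.homeomorph).symm
    _ ≤ ENat.card (_root_.ConnectedComponents ↥(pullback q (closedι (A := A)))) := card_genericFibre_le q hqred ho
    _ = ENat.card (_root_.ConnectedComponents ↥(pullback f (closedι ≫ g))) :=
        H7Flat.GeomInt.card_connectedComponents_congr (pullbackLeftPullbackSndIso f g closedι).hom.homeomorph
    _ ≤ MoreMor.nGeomConnComp f ((closedι ≫ g) (closedPoint _)) := card_le_nGeom f _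
    _ = MoreMor.nGeomConnComp f y := by rw [Scheme.Hom.comp_apply, closedι_apply, hg]

end Groth.Agent.H06Conn
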