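import Groth.Agent.H06Conn.ReducedFibre
import Groth.Agent.H06EGA15.GeomPointsSemicont
import Groth.Agent.H7Lim.FPDescent.Noetherian
import Groth.Agent.H7Lim.DescendFlat
import Groth.Agent.H7Lim.Proper.Descend
import Groth.Agent.H7Flat.GeomInt.Counts
import Groth.Agent.H7Flat.GeomReducedConstructible
import Groth.Agent.S3416

/-!
The geometric number of connected components of a flat proper morphism of finite presentation.
-/

open CategoryTheory CategoryTheory.Limits AlgebraicGeometry Opposite TopologicalSpace Topology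

universe u

namespace Groth.Agent.H06Conn

set_option backward.isDefEq.respectTransparency false
set_option linter.style.haveILetI false

open Groth.Agent.H7Lim Groth.Agent.H7Lim.FPDescent

variable {X : Scheme.{u}}

/-- A flat proper finitely presented scheme over an affine base comes from a noetherian base. -/
theorem exists_proper_flat_model {R : Type u} [CommRing R] (f : X ⟶ Spec (CommRingCat.of R)) [IsProper f] [Flat f]
    [LocallyOfFinitePresentation f] :
    ∃ (A : Subalgebra ℤ R) (X₀ : Scheme.{u}) (f₀ : X₀ ⟶ Spec (CommRingCat.of A)) (g : X ⟶ X₀),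
      Algebra.FiniteType ℤ A ∧ IsProper f₀ ∧ Flat f₀ ∧ LocallyOfFinitePresentation f₀ ∧
        IsPullback g f f₀ (Spec.map (CommRingCat.ofHom A.val.toRingHom)) := by
  let c : Cone ((subringFunctor R).op ⋙ Scheme.Spec) := Scheme.Spec.mapCone (subringCocone R).op
  have hc : IsLimit c := isLimitOfPreserves Scheme.Spec (subringIsColimit R).op
  haveI : ∀ (i j : (Finset R)ᵒᵖ) (φ : i ⟶ j), IsAffineHom (((subringFunctor R).op ⋙ Scheme.Spec).map φ) := fun i j φ =>
    inferInstanceAs (IsAffineHom (Spec.map _))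
  haveI : ∀ i, IsAffine (((subringFunctor R).op ⋙ Scheme.Spec).obj i) := fun i =>
    inferInstanceAs (IsAffine (Spec _))
  haveI : ∀ i, CompactSpace (((subringFunctor R).op ⋙ Scheme.Spec).obj i) := fun i =>
    inferInstanceAs (CompactSpace ↥(Spec _))
  haveI : ∀ i, QuasiSeparatedSpace (((subringFunctor R).op ⋙ Scheme.Spec).obj i) := fun i =>
    inferInstanceAs (QuasiSeparatedSpace ↥(Spec _))
  haveI : Nonempty (Finset R) := ⟨∅⟩
  obtain ⟨i, ⟨M⟩⟩ := exists_model hc (X := X) f
  haveI := M.compactSpace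
  haveI := M.quasiSeparatedSpace
  have hP₁ : Flat (pullback.snd M.p (c.π.app i)) := by
    rw [← M.hpb.isoPullback_inv_snd]
    infer_instance
  obtain ⟨j, φ, hPj⟩ := descendsAffine_flat _ _ c hc i M.p M.lfp hP₁
  haveI := (M.shift φ).compactSpace
  haveI := (M.shift φ).quasiSeparatedSpace
  have hP₂ : IsProper (pullback.snd (M.shift φ).p (c.π.app j)) := by
    rw [← (M.shift φ).hpb.isoPullback_inv_snd]
    infer_instance
  obtain ⟨l, ψ, hPl⟩ := descends_isProper _ _ c hc j (M.shift φ).p inferInstance hP₂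
  let N := (M.shift φ).shift ψ
  refine ⟨Algebra.adjoin ℤ ((unop l : Finset R) : Set R), N.P, N.p, N.g,
    (Algebra.adjoin ℤ ((unop l : Finset R) : Set R)).fg_iff_finiteType.1 ⟨unop l, rfl⟩, hPl, ?_, N.lfp, N.hpb⟩
  exact MorphismProperty.pullback_snd (M.shift φ).p _ hPj

variable {Y : Scheme.{u}} (f : X ⟶ Y) [IsProper f] [Flat f] [LocallyOfFinitePresentation f]

/-- Descend a statement on the geometric number of components to a noetherian base. -/
theorem exists_noetherian_base (y : Y) :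
    ∃ (U S X₀ : Scheme.{u}) (f₀ : X₀ ⟶ S) (b : U ⟶ S) (ι : U ⟶ Y) (u₀ : U),
      IsOpenImmersion ι ∧ ι u₀ = y ∧ IsLocallyNoetherian S ∧ IsProper f₀ ∧ Flat f₀ ∧ LocallyOfFinitePresentation f₀ ∧
        (∀ u, MoreMor.nGeomConnComp f (ι u) = MoreMor.nGeomConnComp f₀ (b u)) ∧
        ∀ u, GeometricallyReduced (f.fiberToSpecResidueField (ι u)) ↔
          GeometricallyReduced (f₀.fiberToSpecResidueField (b u)) := by
  obtain ⟨R, ι, hι, ⟨u₀, hu₀⟩, -⟩ := Scheme.exists_affine_mem_range_and_range_subset (X := Y) (U := ⊤) (x := y) trivial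
  let f' := pullback.snd f ι
  obtain ⟨A, X₀, f₀, g, hA, h₁, h₂, h₃, hpb⟩ := exists_proper_flat_model (R := R) f'
  haveI : IsNoetherianRing A := Algebra.FiniteType.isNoetherianRing ℤ A
  haveI := hι
  refine ⟨_, _, X₀, f₀, Spec.map (CommRingCat.ofHom A.val.toRingHom), ι, u₀, hι, hu₀,
    inferInstance, h₁, h₂, h₃, fun u => ?_, fun u => ?_⟩
  · exact (H7Flat.GeomInt.nGeom_baseChange (IsPullback.of_hasPullback f ι) u).2.symm.trans
      (H7Flat.GeomInt.nGeom_baseChange hpb u).2
  · exact (H7Flat.GeomReduced.geometricallyReduced_fiber_baseChange (IsPullback.of_hasPullback f ι) u).symm.trans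
      (H7Flat.GeomReduced.geometricallyReduced_fiber_baseChange hpb u)

/-- Lower semicontinuity. -/
theorem setOf_le_mem_nhds_of_proper_flat (y : Y) :
    {z : Y | MoreMor.nGeomConnComp f y ≤ MoreMor.nGeomConnComp f z} ∈ nhds y := by
  obtain ⟨U, S, X₀, f₀, b, ι, u₀, hι, hu₀, hS, h₁, h₂, h₃, hn, -⟩ := exists_noetherian_base f y
  haveI := hι
  have hlsc := H06EGA15.setOf_le_mem_nhds f₀ (b u₀) (nGeomConnComp_lt_top f₀ _) fun s' hs' =>
    nGeomConnComp_le_of_specializes f₀ hs' fun x _ Y' g x' _ V hV => (pullback.snd f₀ g).isOpenMap.image_mem_nhds hV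
  rw [← hu₀]
  refine Filter.mem_of_superset (ι.isOpenEmbedding.isOpenMap.image_mem_nhds (b.continuous.continuousAt.preimage_mem_nhds hlsc)) ?_
  rintro _ ⟨u, hu, rfl⟩
  show MoreMor.nGeomConnComp f (ι u₀) ≤ MoreMor.nGeomConnComp f (ι u)
  rw [hn, hn]
  exact hu

/-- Local constancy at a point with geometrically reduced fibre. -/
theorem setOf_eq_mem_nhds_of_proper_flat (y : Y) (hy : GeometricallyReduced (f.fiberToSpecResidueField y)) :
    {z : Y | MoreMor.nGeomConnComp f z = MoreMor.nGeomConnComp f y} ∈ nhds y := by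
  obtain ⟨U, S, X₀, f₀, b, ι, u₀, hι, hu₀, hS, h₁, h₂, h₃, hn, hg⟩ := exists_noetherian_base f y
  haveI := hι
  obtain ⟨V, hV, hVc⟩ := S3416.result f₀ (b u₀) (fun x _ Y' g x' _ W hW => (pullback.snd f₀ g).isOpenMap.image_mem_nhds hW)
    ((hg u₀).mp (by rw [hu₀]; exact hy))
  rw [← hu₀]
  refine Filter.mem_of_superset (ι.isOpenEmbedding.isOpenMap.image_mem_nhds (b.continuous.continuousAt.preimage_mem_nhds hV)) ?_
  rintro _ ⟨u, hu, rfl⟩
  show MoreMor.nGeomConnComp f (ι u) = MoreMor.nGeomConnComp f (ι u₀)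
  rw [hn, hn]
  exact hVc _ hu

end Groth.Agent.H06Conn
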