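import Mathlib

/-!
Going down for integral extensions of integrally closed domains.
-/

universe u v

open Polynomial

namespace Groth.Agent.H06Conn

variable {C : Type u} {B : Type v} [CommRing C] [IsDomain C] [CommRing B] [IsDomain B] [Algebra C B]
  [IsIntegrallyClosed C] [Algebra.IsIntegral C B] [FaithfulSMul C B]

theorem smul_notMem_map (p : Ideal C) [p.IsPrime] (Q : Ideal B) [Q.IsPrime] (hle : p ≤ Q.under C) {s : C}
    (hs : s ∉ p) {t : B} (ht : t ∉ Q) : algebraMap C B s * t ∉ p.map (algebraMap C B) := by
  intro hx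
  set x := algebraMap C B s * t
  obtain ⟨P, hPm, hP0, hP⟩ := exists_monic_aeval_eq_zero_forall_mem_pow_of_mem_map hx
  have hxi : IsIntegral C x := Algebra.IsIntegral.isIntegral x
  have hti : IsIntegral C t := Algebra.IsIntegral.isIntegral t
  set r := minpoly C x
  set q := minpoly C t
  have hr : r.map (Ideal.Quotient.mk p) = X ^ r.natDegree := by
    have hdvd := Polynomial.map_dvd (Ideal.Quotient.mk p) (minpoly.isIntegrallyClosed_dvd hxi hP0)
    have hPX : P.map (Ideal.Quotient.mk p) = X ^ P.natDegree := by
      ext i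
      rw [coeff_map, coeff_X_pow]
      rcases lt_trichotomy i P.natDegree with hi | rfl | hi
      · rw [if_neg hi.ne, Ideal.Quotient.eq_zero_iff_mem]
        exact Ideal.pow_le_self (by omega) (hP i)
      · rw [if_pos rfl, hPm.coeff_natDegree, map_one]
      · rw [if_neg hi.ne', coeff_eq_zero_of_natDegree_lt hi, map_zero]
    rw [hPX, dvd_prime_pow prime_X] at hdvd
    obtain ⟨k, -, hk⟩ := hdvd
    have := eq_of_monic_of_associated ((minpoly.monic hxi).map _) (monic_X_pow k) hk
    rw [this]
    congr 1
    rw [← (minpoly.monic hxi).natDegree_map (Ideal.Quotient.mk p), this, natDegree_X_pow]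
  have hs0 : s ≠ 0 := fun h => hs (h ▸ p.zero_mem)
  have hdeg : q.natDegree ≤ r.natDegree := by
    let K := FractionRing C
    let L := FractionRing B
    haveI : FaithfulSMul C L := (faithfulSMul_iff_algebraMap_injective C L).mpr <| IsScalarTower.algebraMap_eq C B L ▸
      ((IsFractionRing.injective B L).comp (FaithfulSMul.algebraMap_injective C B))
    letI : Algebra K L := FractionRing.liftAlgebra C L
    haveI : IsScalarTower C K L := FractionRing.isScalarTower_liftAlgebra C L
    have hq : minpoly K (algebraMap B L t) = q.map (algebraMap C K) :=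
      minpoly.isIntegrallyClosed_eq_field_fractions K L hti
    have hs' : algebraMap C K s ≠ 0 := fun h => hs0 (IsFractionRing.injective C K (by rw [h, map_zero]))
    have hroot : aeval (algebraMap B L x) (r.map (algebraMap C K)) = 0 := by
      rw [aeval_map_algebraMap, aeval_algebraMap_apply, minpoly.aeval, map_zero]
    have hroot' := scaleRoots_aeval_eq_zero (r := (algebraMap C K s)⁻¹) hroot
    have hxt : algebraMap K L (algebraMap C K s)⁻¹ * algebraMap B L x = algebraMap B L t := by
      rw [map_inv₀, map_mul, ← IsScalarTower.algebraMap_apply C B L, IsScalarTower.algebraMap_apply C K L,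
        ← mul_assoc, inv_mul_cancel₀ (by simpa using hs'), one_mul]
    rw [hxt] at hroot'
    have hle' := natDegree_le_of_dvd (minpoly.dvd K _ hroot')
      (scaleRoots_ne_zero (((minpoly.monic hxi).map _).ne_zero) _)
    rw [hq, natDegree_scaleRoots, (minpoly.monic hti).natDegree_map, (minpoly.monic hxi).natDegree_map] at hle'
    exact hle'
  have heq : r = q.scaleRoots s := by
    refine eq_of_monic_of_dvd_of_natDegree_le (minpoly.monic hxi)
      ((monic_scaleRoots_iff s).mpr (minpoly.monic hti))
      (minpoly.isIntegrallyClosed_dvd hxi (scaleRoots_aeval_eq_zero (minpoly.aeval C t))) ?_ |>.symm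
    rw [natDegree_scaleRoots]
    exact hdeg
  have hcoeff : ∀ i < q.natDegree, q.coeff i ∈ p := fun i hi => by
    have h1 := congrArg (fun f : (C ⧸ p)[X] => f.coeff i) hr
    simp only [coeff_map, coeff_X_pow, heq, coeff_scaleRoots, natDegree_scaleRoots, if_neg hi.ne,
      Ideal.Quotient.eq_zero_iff_mem] at h1
    exact ((Ideal.IsPrime.mem_or_mem ‹_› h1).resolve_right fun h => hs (Ideal.IsPrime.mem_of_pow_mem ‹_› _ h))
  apply ht
  refine Ideal.IsPrime.mem_of_pow_mem ‹_› q.natDegree ?_
  have h0 := minpoly.aeval C t
  rw [aeval_eq_sum_range, Finset.sum_range_succ, show (minpoly C t).coeff (minpoly C t).natDegree = 1 from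
    (minpoly.monic hti).coeff_natDegree, one_smul] at h0
  rw [eq_neg_of_add_eq_zero_right h0]
  refine neg_mem (sum_mem fun i hi => ?_)
  rw [Algebra.smul_def]
  exact Ideal.mul_mem_right _ _ (hle (hcoeff i (Finset.mem_range.mp hi)))

variable (C B) in
/-- Going down holds for integral extensions of an integrally closed domain. -/
theorem hasGoingDown : Algebra.HasGoingDown C B := by
  constructor
  intro p hp Q hQ hlt
  obtain ⟨P, hP, hle, hdisj⟩ := Ideal.exists_le_prime_disjoint (p.map (algebraMap C B))
    (p.primeCompl.map (algebraMap C B) ⊔ Q.primeCompl) (by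
      rw [Set.disjoint_left]
      intro x hx hxS
      obtain ⟨_, ⟨s, hs, rfl⟩, t, ht, rfl⟩ := Submonoid.mem_sup.mp hxS
      exact smul_notMem_map p Q hlt.le hs ht hx)
  refine ⟨P, fun z hz => by_contra fun hn => Set.disjoint_left.mp hdisj hz (Submonoid.mem_sup_right hn), hP, ⟨?_⟩⟩
  refine le_antisymm (fun c hc => hle (Ideal.mem_map_of_mem _ hc)) fun c hc => by_contra fun hn => ?_
  exact Set.disjoint_left.mp hdisj hc (Submonoid.mem_sup_left ⟨c, hn, rfl⟩)

end Groth.Agent.H06Conn
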