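import Groth.Agent.LeadBC.Basic
import Groth.Agent.H10Coh.Proper2
import Mathlib.RingTheory.Spectrum.Prime.Topology
import Mathlib.RingTheory.Spectrum.Prime.RingHom

/-!
Clopen subsets of the closed fibre of a proper scheme are cut out by a global function, as soon as the
parameter is regular on sections.
-/

set_option linter.style.haveILetI false

open AlgebraicGeometry CategoryTheory CategoryTheory.Limits TopologicalSpace Opposite
open Groth.Agent.H15Site Groth.Agent.LeadBC

universe u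

namespace Groth.Agent.H06Conn

set_option backward.isDefEq.respectTransparency false

/-- A finitely generated module over a noetherian ring has bounded torsion for powers of an element. -/
theorem exists_torsion_bound {A M : Type*} [CommRing A] [IsNoetherianRing A] [AddCommGroup M] [Module A M]
    [Module.Finite A M] (a : A) : ∃ N : ℕ, ∀ (n : ℕ) (x : M), a ^ n • x = 0 → a ^ N • x = 0 := by
  haveI : IsNoetherian A M := isNoetherian_of_isNoetherianRing_of_finite A M
  let F : ℕ →o Submodule A M :=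
    ⟨fun n => LinearMap.ker (LinearMap.lsmul A M (a ^ n)), fun n m h x hx => by
      simp only [LinearMap.mem_ker, LinearMap.lsmul_apply] at hx ⊢
      rw [← Nat.sub_add_cancel h, pow_add, mul_smul, hx, smul_zero]⟩
  obtain ⟨N, hN⟩ := monotone_stabilizes_iff_noetherian.mpr (inferInstance : IsNoetherian A M) F
  refine ⟨N, fun n x hx => ?_⟩
  rcases le_total n N with h | h
  · exact F.mono h (show x ∈ F n from LinearMap.mem_ker.mpr hx)
  · exact (hN n h).ge (show x ∈ F n from LinearMap.mem_ker.mpr hx)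

/-! ### The affine case -/

section Ring

variable {R : Type*} [CommRing R] (a : R) (C : Set (PrimeSpectrum R))

/-- A relatively clopen subset of `V(a)` is cut out by an idempotent modulo `a ^ n`. -/
theorem exists_idem (n : ℕ) (hn : n ≠ 0) (hC : IsClosed (PrimeSpectrum.zeroLocus {a} ∩ C))
    (hC' : IsClosed (PrimeSpectrum.zeroLocus {a} \ C)) :
    ∃ g : R, g * g - g ∈ Ideal.span {a ^ n} ∧
      ∀ p : PrimeSpectrum R, a ∈ p.asIdeal → (g ∉ p.asIdeal ↔ p ∈ C) := by
  let I : Ideal R := Ideal.span {a ^ n}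
  let c : PrimeSpectrum (R ⧸ I) → PrimeSpectrum R := PrimeSpectrum.comap (Ideal.Quotient.mk I)
  have hmem : ∀ q, c q ∈ PrimeSpectrum.zeroLocus {a} := fun q => by
    rw [PrimeSpectrum.mem_zeroLocus, Set.singleton_subset_iff]
    refine (c q).isPrime.mem_of_pow_mem n ?_
    show Ideal.Quotient.mk I (a ^ n) ∈ q.asIdeal
    rw [Ideal.Quotient.eq_zero_iff_mem.mpr (Ideal.mem_span_singleton_self _)]
    exact q.asIdeal.zero_mem
  have hcl : IsClopen (c ⁻¹' C) := by
    refine ⟨?_, ?_⟩
    · have := hC.preimage (PrimeSpectrum.continuous_comap (Ideal.Quotient.mk I))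
      rwa [show c ⁻¹' (PrimeSpectrum.zeroLocus {a} ∩ C) = c ⁻¹' C from
        Set.ext fun q => and_iff_right (hmem q)] at this
    · rw [← isClosed_compl_iff]
      have := hC'.preimage (PrimeSpectrum.continuous_comap (Ideal.Quotient.mk I))
      rwa [show c ⁻¹' (PrimeSpectrum.zeroLocus {a} \ C) = (c ⁻¹' C)ᶜ from
        Set.ext fun q => and_iff_right (hmem q)] at this
  obtain ⟨e, he, heC⟩ := PrimeSpectrum.isClopen_iff.mp hcl
  obtain ⟨g, rfl⟩ := Ideal.Quotient.mk_surjective e
  refine ⟨g, ?_, fun p hp => ?_⟩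
  · rw [← Ideal.Quotient.eq, map_mul]
    exact he
  · obtain ⟨q, rfl⟩ : p ∈ Set.range c := by
      show p ∈ Set.range (PrimeSpectrum.comap (Ideal.Quotient.mk I))
      rw [range_comap_of_surjective _ _ Ideal.Quotient.mk_surjective, Ideal.mk_ker,
        PrimeSpectrum.mem_zeroLocus]
      exact (Ideal.span_singleton_le_iff_mem _).mpr (Ideal.pow_mem_of_mem _ hp n (Nat.pos_of_ne_zero hn))
    rw [show c q ∈ C ↔ q ∈ c ⁻¹' C from Iff.rfl, heC]
    rfl

/-- Two such idempotents agree modulo `a ^ n`. -/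
theorem sub_mem_of_idem (n : ℕ) {g g' : R} (hg : g * g - g ∈ Ideal.span {a ^ n})
    (hg' : g' * g' - g' ∈ Ideal.span {a ^ n})
    (h : ∀ p : PrimeSpectrum R, a ∈ p.asIdeal → (g ∉ p.asIdeal ↔ g' ∉ p.asIdeal)) :
    g - g' ∈ Ideal.span {a ^ n} := by
  let I : Ideal R := Ideal.span {a ^ n}
  rw [← Ideal.Quotient.eq] at hg hg' ⊢
  rw [map_mul] at hg hg'
  refine PrimeSpectrum.basicOpen_injOn_isIdempotentElem hg hg' (TopologicalSpace.Opens.ext (Set.ext fun q => ?_))
  have hmem : a ∈ (PrimeSpectrum.comap (Ideal.Quotient.mk I) q).asIdeal := by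
    refine (PrimeSpectrum.comap (Ideal.Quotient.mk I) q).isPrime.mem_of_pow_mem n ?_
    show Ideal.Quotient.mk I (a ^ n) ∈ q.asIdeal
    rw [Ideal.Quotient.eq_zero_iff_mem.mpr (Ideal.mem_span_singleton_self _)]
    exact q.asIdeal.zero_mem
  exact h _ hmem

end Ring

/-! ### The scheme case -/

variable {A : Type u} [CommRing A] {X : Scheme.{u}} [X.Over (Spec (CommRingCat.of A))] (a : A) (C : Set X)

/-- The locus where the parameter is not invertible. -/
def spec (X : Scheme.{u}) [X.Over (Spec (CommRingCat.of A))] (a : A) : Set X :=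
  ((X.basicOpen (sc A (⊤ : X.Opens) a) : X.Opens) : Set X)ᶜ

theorem notMem_basicOpen_sc_iff (V : X.Opens) {x : X} (hx : x ∈ V) :
    x ∉ X.basicOpen (sc A V a) ↔ x ∈ spec X a := by
  have : X.basicOpen (sc A V a) = V ⊓ X.basicOpen (sc A (⊤ : X.Opens) a) := by
    rw [← Scheme.basicOpen_res _ _ (homOfLE (le_top : V ≤ ⊤)).op,
      LeadFF.map_scal (X ↘ Spec (CommRingCat.of A)) (le_top : V ≤ ⊤) a]
  rw [this]
  exact not_congr (and_iff_right hx)

/-- `g` cuts out `C` in the special locus and is idempotent modulo `a ^ n`. -/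
def Good (n : ℕ) (V : X.Opens) (g : Γ(X, V)) : Prop :=
  g * g - g ∈ Ideal.span {(sc A V a) ^ n} ∧ ∀ x ∈ V, x ∈ spec X a → (x ∈ X.basicOpen g ↔ x ∈ C)

theorem Good.res {n : ℕ} {V W : X.Opens} {g : Γ(X, V)} (h : Good a C n V g) (hle : W ≤ V) :
    Good a C n W (X.presheaf.map (homOfLE hle).op g) := by
  refine ⟨?_, fun x hx hxs => ?_⟩
  · obtain ⟨c, hc⟩ := Ideal.mem_span_singleton'.mp h.1
    refine Ideal.mem_span_singleton'.mpr ⟨X.presheaf.map (homOfLE hle).op c, ?_⟩
    rw [← LeadFF.map_scal (X ↘ Spec (CommRingCat.of A)) hle a, ← map_pow, ← map_mul, hc, map_sub, map_mul]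
  · rw [Scheme.basicOpen_res]
    exact (and_iff_right hx).trans (h.2 x (hle hx) hxs)

theorem exists_good (n : ℕ) (hn : n ≠ 0) (hC : IsClosed (spec X a ∩ C)) (hC' : IsClosed (spec X a \ C))
    {V : X.Opens} (hV : IsAffineOpen V) : ∃ g, Good a C n V g := by
  have hmem : ∀ p : Spec Γ(X, V), ∀ f : Γ(X, V), hV.fromSpec p ∈ X.basicOpen f ↔ f ∉ p.asIdeal := fun p f => by
    show p ∈ hV.fromSpec ⁻¹ᵁ X.basicOpen f ↔ _
    rw [hV.fromSpec_preimage_basicOpen]
    rfl
  have hz : ∀ p : Spec Γ(X, V), sc A V a ∈ p.asIdeal ↔ hV.fromSpec p ∈ spec X a := fun p => by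
    rw [← notMem_basicOpen_sc_iff a V (hV.range_fromSpec.subset (Set.mem_range_self p)), hmem, not_not]
  have he : ∀ S : Set X, hV.fromSpec ⁻¹' (spec X a ∩ S) =
      PrimeSpectrum.zeroLocus {sc A V a} ∩ hV.fromSpec ⁻¹' S := fun S => Set.ext fun p =>
    and_congr_left' ((hz p).symm.trans ((PrimeSpectrum.mem_zeroLocus _ _).trans Set.singleton_subset_iff).symm)
  obtain ⟨g, hg, hgC⟩ := exists_idem (sc A V a) (hV.fromSpec ⁻¹' C) n hn
    (he C ▸ hC.preimage hV.fromSpec.continuous)
    (by rw [Set.sdiff_eq, ← Set.preimage_compl, ← he]; exact hC'.preimage hV.fromSpec.continuous)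
  refine ⟨g, hg, fun x hx hxs => ?_⟩
  obtain ⟨p, rfl⟩ : x ∈ Set.range hV.fromSpec := hV.range_fromSpec.ge hx
  rw [hmem]
  exact hgC p ((hz p).mpr hxs)

theorem Good.sub_mem {n : ℕ} {V : X.Opens} (hV : IsAffineOpen V) {g g' : Γ(X, V)} (h : Good a C n V g)
    (h' : Good a C n V g') : g - g' ∈ Ideal.span {(sc A V a) ^ n} := by
  refine sub_mem_of_idem (sc A V a) n h.1 h'.1 fun p hp => ?_
  have hmem : ∀ f : Γ(X, V), hV.fromSpec p ∈ X.basicOpen f ↔ f ∉ p.asIdeal := fun f => by
    show p ∈ hV.fromSpec ⁻¹ᵁ X.basicOpen f ↔ _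
    rw [hV.fromSpec_preimage_basicOpen]
    rfl
  have hx : hV.fromSpec p ∈ V := hV.range_fromSpec.subset (Set.mem_range_self p)
  have hs : hV.fromSpec p ∈ spec X a := by
    rw [← notMem_basicOpen_sc_iff a V hx, hmem, not_not]; exact hp
  rw [← hmem, ← hmem, h.2 _ hx hs, h'.2 _ hx hs]

/-- A section of the structure module as a function. -/
abbrev fn {V : X.Opens} (x : sec A (Coh.structureModule X) V) : Γ(X, V) := x

/-- A clopen subset of the special locus is the locus of invertibility of a global function. -/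
theorem exists_global [IsNoetherianRing A] [IsProper (X ↘ Spec (CommRingCat.of A))]
    (hreg : ∀ V : X.Opens, IsAffineOpen V → IsRegular (sc A V a))
    (hC : IsClosed (spec X a ∩ C)) (hC' : IsClosed (spec X a \ C)) :
    ∃ G : Γ(X, ⊤), ∀ x ∈ spec X a, (x ∈ X.basicOpen G ↔ x ∈ C) := by
  classical
  obtain ⟨ι, _, U, hU⟩ := exists_goodCover A (X := X)
  haveI : (Coh.structureModule X).IsQuasicoherent := (H10Coh.isCoh_structureModule' X).1
  haveI : Module.Finite A (Coh.HH X (Coh.structureModule X) 1) := by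
    haveI : IsLocallyNoetherian X := LocallyOfFiniteType.isLocallyNoetherian (X ↘ Spec (CommRingCat.of A))
    exact H10Coh.finite_HH_proper A X _ (H10Coh.isCoh_structureModule' X) 1
  let K := KC A U (Coh.structureModule X)
  haveI : Module.Finite A (K.homology 1) := Module.Finite.equiv (eHH A hU (Coh.structureModule X) 1).symm
  obtain ⟨N, hN⟩ := exists_torsion_bound (M := K.homology 1) a
  have haff : ∀ (p : ℕ) (b : Fin (p + 1) → ι), IsAffineOpen (CechTop.cap U b) := hU.affine
  choose g hg using fun b : Fin 1 → ι => exists_good a C (N + 1) N.succ_ne_zero hC hC' (haff 0 b)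
  let g0 : Kp A U (Coh.structureModule X) 0 := g
  let d0 := dK A U (Coh.structureModule X) 0
  let d1 := dK A U (Coh.structureModule X) 1
  have hd0 : ∀ (x : Kp A U (Coh.structureModule X) 0) (b : Fin 2 → ι),
      (d0 x b : Γ(X, CechTop.cap U b)) =
        X.presheaf.map (homOfLE (CechTop.cap_comp_le U b (0 : Fin 2).succAbove)).op (x (b ∘ (0 : Fin 2).succAbove)) -
          X.presheaf.map (homOfLE (CechTop.cap_comp_le U b (1 : Fin 2).succAbove)).op (x (b ∘ (1 : Fin 2).succAbove)) := by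
    intro x b
    rw [dK_apply, Fin.sum_univ_two]
    simp only [Fin.val_zero, pow_zero, one_smul, Fin.val_one, pow_one, neg_smul, ← sub_eq_add_neg]
    rfl
  have hdiv : ∀ b : Fin 2 → ι, ∃ c : Γ(X, CechTop.cap U b), sc A _ a ^ (N + 1) * c = (d0 g0 b : Γ(X, CechTop.cap U b)) := by
    intro b
    have h := ((hg (b ∘ (0 : Fin 2).succAbove)).res a C (CechTop.cap_comp_le U b (0 : Fin 2).succAbove)).sub_mem a C
      (haff 1 b) ((hg (b ∘ (1 : Fin 2).succAbove)).res a C (CechTop.cap_comp_le U b (1 : Fin 2).succAbove))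
    obtain ⟨c, hc⟩ := Ideal.mem_span_singleton'.mp h
    exact ⟨c, by rw [mul_comm, hc, hd0]⟩
  choose c hc using hdiv
  let c1 : Kp A U (Coh.structureModule X) 1 := c
  have hgc : d0 g0 = a ^ (N + 1) • c1 := funext fun b => by
    show (d0 g0 b : Γ(X, CechTop.cap U b)) = sc A _ (a ^ (N + 1)) * c b
    rw [map_pow, hc]
  have hc1 : d1 c1 = 0 := by
    have h0 : d1 (d0 g0) = 0 := LinearMap.congr_fun (dK_dK A U (Coh.structureModule X) 0) g0
    rw [hgc, map_smul] at h0
    funext b
    have h1 : sc A (CechTop.cap U b) (a ^ (N + 1)) * fn (d1 c1 b) = 0 := congrFun h0 b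
    rw [map_pow] at h1
    exact ((hreg _ (haff 2 b)).pow (N + 1)).left (h1.trans (mul_zero _).symm)
  have hprev : (ComplexShape.up ℕ).prev 1 = 0 := CochainComplex.prev_nat_succ 0
  have hnext : (ComplexShape.up ℕ).next 1 = 2 := CochainComplex.next ℕ 1
  have hd01 : K.d 0 1 = ModuleCat.ofHom d0 := KC_d A U (Coh.structureModule X) 0
  have hd12 : K.d 1 2 = ModuleCat.ofHom d1 := KC_d A U (Coh.structureModule X) 1
  let z : LinearMap.ker (K.d 1 2).hom := ⟨c1, by rw [LinearMap.mem_ker, hd12]; exact hc1⟩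
  have hz : a ^ (N + 1) • H06FlatCx.cls K hnext z = 0 := by
    rw [← map_smul, H06FlatCx.cls_eq_zero_iff K hprev hnext, hd01]
    exact ⟨g0, hgc⟩
  have hzN := hN (N + 1) _ hz
  rw [← map_smul, H06FlatCx.cls_eq_zero_iff K hprev hnext, hd01] at hzN
  obtain ⟨(h : Kp A U (Coh.structureModule X) 0), hh⟩ := hzN
  let g' : Kp A U (Coh.structureModule X) 0 := g0 - a • h
  have hg' : d0 g' = 0 := by
    show d0 (g0 - a • h) = 0
    rw [map_sub, map_smul, hgc, show d0 h = a ^ N • c1 from hh, smul_smul, ← pow_succ', sub_self]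
  let W : (Fin 1 → ι) → X.Opens := fun b => CechTop.cap U b
  have hcov : (⊤ : X.Opens) ≤ ⨆ b, W b := hU.cover.trans (iSup_le fun i =>
    le_trans (le_iInf fun _ => le_rfl) (le_iSup W (fun _ => i)))
  have hcomp : TopCat.Presheaf.IsCompatible X.sheaf.obj W (fun b => (g' b : Γ(X, W b))) := by
    intro b b'
    let bb : Fin 2 → ι := ![b 0, b' 0]
    have e0 : bb ∘ (1 : Fin 2).succAbove = b := funext fun j => by fin_cases j; rfl
    have e1 : bb ∘ (0 : Fin 2).succAbove = b' := funext fun j => by fin_cases j; rfl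
    have hle : W b ⊓ W b' ≤ CechTop.cap U bb := by
      refine le_iInf fun k => ?_
      fin_cases k
      · exact inf_le_left.trans (iInf_le _ 0)
      · exact inf_le_right.trans (iInf_le _ 0)
    have h2 := congrArg (X.presheaf.map (homOfLE hle).op) ((hd0 g' bb).symm.trans (congrFun hg' bb))
    rw [map_sub, ← ConcreteCategory.comp_apply, ← ConcreteCategory.comp_apply, ← Functor.map_comp,
      ← Functor.map_comp, ← op_comp, ← op_comp] at h2
    have key : ∀ (b₀ b₁ : Fin 1 → ι) (e : b₀ = b₁) (V : X.Opens) (l₀ : V ≤ W b₀) (l₁ : V ≤ W b₁),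
        (X.presheaf.map (homOfLE l₀).op (g' b₀) : Γ(X, V)) = X.presheaf.map (homOfLE l₁).op (g' b₁) := by
      rintro b₀ _ rfl V l₀ l₁
      rfl
    have h3 : (X.presheaf.map (homOfLE (hle.trans (CechTop.cap_comp_le U bb (0 : Fin 2).succAbove))).op (g' _) : Γ(X, W b ⊓ W b')) =
        X.presheaf.map (homOfLE (hle.trans (CechTop.cap_comp_le U bb (1 : Fin 2).succAbove))).op (g' _) :=
      sub_eq_zero.mp (h2.trans (map_zero _))
    exact ((key _ _ e0.symm _ inf_le_left _).trans (h3.symm.trans (key _ _ e1 _ _ inf_le_right)))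
  obtain ⟨G, hG, -⟩ := X.sheaf.existsUnique_gluing' W ⊤ (fun b => homOfLE le_top) hcov _ hcomp
  refine ⟨G, fun x hx => ?_⟩
  obtain ⟨b, hb⟩ := Opens.mem_iSup.mp (hcov (show x ∈ (⊤ : X.Opens) from trivial))
  rw [← (hg b).2 x hb hx]
  have hGb : (X.presheaf.map (homOfLE (le_top : W b ≤ ⊤)).op G : Γ(X, W b)) = g b - sc A (W b) a * fn (h b) := hG b
  have h1 : x ∈ X.basicOpen G ↔ x ∈ X.basicOpen (g b - sc A (W b) a * fn (h b)) := by
    rw [← hGb, Scheme.basicOpen_res]
    exact (and_iff_right hb).symm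
  rw [h1, X.mem_basicOpen _ x hb, X.mem_basicOpen _ x hb, map_sub, map_mul]
  have ha : (X.presheaf.germ _ x hb) (sc A (W b) a) ∈ IsLocalRing.maximalIdeal (X.presheaf.stalk x) := by
    rw [IsLocalRing.mem_maximalIdeal, mem_nonunits_iff, ← X.mem_basicOpen]
    exact (notMem_basicOpen_sc_iff a (W b) hb).mpr hx
  rw [← IsLocalRing.notMem_maximalIdeal, ← IsLocalRing.notMem_maximalIdeal,
    Submodule.sub_mem_iff_left _ (Ideal.mul_mem_right _ _ ha)]

end Groth.Agent.H06Conn
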