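import Mathlib

/-!
Connectedness of the generic fibre of an open morphism over a discrete valuation ring with reduced
closed fibre (EGA IV 15.5.4).
-/

set_option autoImplicit false
set_option linter.style.haveILetI false
set_option backward.isDefEq.respectTransparency false

universe u

open CategoryTheory CategoryTheory.Limits AlgebraicGeometry TopologicalSpace

namespace Groth.Agent.H06Conn

/-- A clopen subset of `D(π)` spreads to a clopen subset of `Spec R` when `R/πR` is reduced and `D(π)`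
is dense. -/
theorem exists_isClopen_spread {R : Type u} [CommRing R] (π : R)
    (hdense : ∀ z : R, IsNilpotent (π * z) → IsNilpotent z)
    (hred : _root_.IsReduced (R ⧸ Ideal.span {π}))
    (U : Set (PrimeSpectrum R)) (hUo : IsOpen U)
    (hVo : IsOpen ((PrimeSpectrum.basicOpen π : Set (PrimeSpectrum R)) \ U)) :
    ∃ B : Set (PrimeSpectrum R), IsClopen B ∧
      B ∩ (PrimeSpectrum.basicOpen π : Set (PrimeSpectrum R)) = U ∩ (PrimeSpectrum.basicOpen π : Set (PrimeSpectrum R)) := by
  let L := Localization.Away π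
  let c := PrimeSpectrum.comap (algebraMap R L)
  have hrange : Set.range c = (PrimeSpectrum.basicOpen π : Set (PrimeSpectrum R)) :=
    PrimeSpectrum.localization_away_comap_range L π
  have hclopen : IsClopen (c ⁻¹' U) := by
    refine ⟨⟨?_⟩, hUo.preimage (PrimeSpectrum.continuous_comap _)⟩
    have : (c ⁻¹' U)ᶜ = c ⁻¹' ((PrimeSpectrum.basicOpen π : Set (PrimeSpectrum R)) \ U) := by
      ext z
      simp [← hrange]
    rw [this]
    exact hVo.preimage (PrimeSpectrum.continuous_comap _)
  obtain ⟨e, he, heU⟩ := PrimeSpectrum.isClopen_iff.1 hclopen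
  obtain ⟨⟨a, ⟨_, n, rfl⟩⟩, hae⟩ := IsLocalization.surj (Submonoid.powers π) e
  have h0 : IsNilpotent (a * a - π ^ n * a) := by
    have h1 : algebraMap R L (a * a - π ^ n * a) = algebraMap R L 0 := by
      simp only [map_sub, map_mul, map_zero, ← hae]
      linear_combination (algebraMap R L (π ^ n) * algebraMap R L (π ^ n)) * he.eq
    obtain ⟨⟨_, k, rfl⟩, hk⟩ := (IsLocalization.eq_iff_exists (Submonoid.powers π) L).1 h1
    simp only [mul_zero] at hk
    have h2 : IsNilpotent (π * (a * a - π ^ n * a)) :=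
      ⟨k + 1, by rw [mul_pow, pow_succ' (a * a - π ^ n * a)]
                 linear_combination (π * (a * a - π ^ n * a) ^ k) * hk⟩
    exact hdense _ h2
  clear hclopen
  induction n generalizing a with
  | zero =>
    rw [pow_zero, one_mul] at h0
    refine ⟨(PrimeSpectrum.basicOpen a : Set _), ⟨⟨?_⟩, (PrimeSpectrum.basicOpen a).2⟩, ?_⟩
    · have : (PrimeSpectrum.basicOpen a : Set (PrimeSpectrum R))ᶜ = (PrimeSpectrum.basicOpen (a - 1) : Set (PrimeSpectrum R)) := by
        ext P
        simp only [Set.mem_compl_iff, SetLike.mem_coe, PrimeSpectrum.mem_basicOpen, not_not]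
        constructor
        · intro ha ha1
          exact P.2.ne_top ((Ideal.eq_top_iff_one _).2 (by simpa using sub_mem ha ha1))
        · intro ha1
          obtain ⟨m, hm⟩ := h0
          refine (P.2.mem_or_mem (show a * (a - 1) ∈ P.asIdeal from ?_)).resolve_right ha1
          exact P.2.mem_of_pow_mem m (by rw [show a * (a - 1) = a * a - a by ring, hm]; exact zero_mem _)
      rw [this]
      exact (PrimeSpectrum.basicOpen (a - 1)).2
    · ext P
      constructor
      · rintro ⟨hPa, hPπ⟩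
        obtain ⟨z, rfl⟩ := hrange.ge hPπ
        refine ⟨show z ∈ c ⁻¹' U from ?_, hPπ⟩
        rw [heU]
        show e ∉ z.asIdeal
        simp only [pow_zero, map_one, mul_one] at hae
        rw [hae]; exact hPa
      · rintro ⟨hPU, hPπ⟩
        obtain ⟨z, rfl⟩ := hrange.ge hPπ
        refine ⟨?_, hPπ⟩
        have : z ∈ c ⁻¹' U := hPU
        rw [heU] at this
        simp only [pow_zero, map_one, mul_one] at hae
        show algebraMap R L a ∉ z.asIdeal
        rw [← hae]; exact this
  | succ n ih =>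
    have hmem : a ∈ Ideal.span {π} := by
      haveI := hred
      rw [← Ideal.Quotient.eq_zero_iff_mem]
      obtain ⟨m, hm⟩ := h0
      have h2 : IsNilpotent (Ideal.Quotient.mk (Ideal.span {π}) a) := by
        refine ⟨2 * m, ?_⟩
        have h3 : Ideal.Quotient.mk (Ideal.span {π}) π = 0 :=
          Ideal.Quotient.eq_zero_iff_mem.2 (Ideal.mem_span_singleton_self π)
        have := congrArg (Ideal.Quotient.mk (Ideal.span {π})) hm
        rw [map_pow, map_sub, map_mul, map_mul, map_pow, h3, zero_pow (Nat.succ_ne_zero n), zero_mul, sub_zero,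
          map_zero] at this
        rw [pow_mul, pow_two]; exact this
      exact h2.eq_zero
    obtain ⟨a', rfl⟩ := Ideal.mem_span_singleton'.1 hmem
    refine ih a' ?_ ?_
    · have hu : IsUnit (algebraMap R L π) := IsLocalization.Away.algebraMap_isUnit π
      apply hu.mul_left_cancel
      simp only [map_mul, map_pow, pow_succ] at hae ⊢
      linear_combination hae
    · refine hdense _ (hdense _ ?_)
      obtain ⟨m, hm⟩ := h0
      exact ⟨m, by rw [← hm]; congr 1; ring⟩

section dvr

variable (A : Type u) [CommRing A] [IsDomain A] [IsDiscreteValuationRing A]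

theorem eq_closedPoint_of_isClosed (a : PrimeSpectrum A) (ha : IsClosed ({a} : Set (PrimeSpectrum A))) :
    a.asIdeal = IsLocalRing.maximalIdeal A :=
  IsLocalRing.eq_maximalIdeal ((PrimeSpectrum.isClosed_singleton_iff_isMaximal a).1 ha)

theorem eq_bot_of_forall_specializes (b : PrimeSpectrum A) (hb : ∀ z : PrimeSpectrum A, b ⤳ z) :
    b.asIdeal = ⊥ :=
  le_bot_iff.1 ((PrimeSpectrum.le_iff_specializes b ⟨⊥, Ideal.isPrime_bot⟩).2 (hb _))

theorem isReduced_quotient_of_fibre {X : Scheme.{u}} (f : X ⟶ Spec (CommRingCat.of A))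
    (a : ↥(Spec (CommRingCat.of A))) (ha : a.asIdeal = IsLocalRing.maximalIdeal A)
    (hred : AlgebraicGeometry.IsReduced (f.fiber a)) {R : CommRingCat.{u}} (j : Spec R ⟶ X) [IsOpenImmersion j]
    (φ : CommRingCat.of A ⟶ R) (hφ : Spec.map φ = j ≫ f) (π : A) (hπ : IsLocalRing.maximalIdeal A = Ideal.span {π}) :
    _root_.IsReduced (R ⧸ Ideal.span {φ.hom π}) := by
  let S := Spec (CommRingCat.of A)
  letI := φ.hom.toAlgebra
  haveI : a.asIdeal.IsMaximal := ha ▸ IsLocalRing.maximalIdeal.isMaximal A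
  let K := a.asIdeal.ResidueField
  let P := pullback (j ≫ f) (S.fromSpecResidueField a)
  haveI : IsOpenImmersion (pullback.snd j (pullback.fst f (S.fromSpecResidueField a))) := inferInstance
  haveI : AlgebraicGeometry.IsReduced P := by
    haveI : AlgebraicGeometry.IsReduced (pullback f (S.fromSpecResidueField a)) := hred
    exact isReduced_of_isOpenImmersion
      ((pullbackRightPullbackFstIso f (S.fromSpecResidueField a) j).inv ≫
        pullback.snd j (pullback.fst f (S.fromSpecResidueField a)))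
  let s := Spec.map (CommRingCat.ofHom (algebraMap A K))
  haveI : AlgebraicGeometry.IsReduced (pullback (Spec.map φ) s) := by
    let i : pullback (j ≫ f) (S.fromSpecResidueField a) ⟶ pullback (Spec.map φ) s :=
      pullback.map _ _ _ _ (𝟙 _) (Spec.map (Scheme.Spec.residueFieldIso (CommRingCat.of A) a).inv) (𝟙 _)
        (by simp [hφ]) (by rw [Category.comp_id, Scheme.Spec.map_residueFieldIso_inv_eq_fromSpecResidueField])
    haveI : IsIso i := inferInstance
    exact isReduced_of_isOpenImmersion (inv i)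
  haveI : AlgebraicGeometry.IsReduced (Spec (CommRingCat.of (TensorProduct A R K))) :=
    isReduced_of_isOpenImmersion (pullbackSpecIso A R K).inv
  haveI : _root_.IsReduced (TensorProduct A R K) := (affine_isReduced_iff _).1 ‹_›
  let e1 := Algebra.TensorProduct.quotIdealMapEquivTensorQuot R a.asIdeal
  let e2 : TensorProduct A R (A ⧸ a.asIdeal) ≃ₐ[A] TensorProduct A R K :=
    Algebra.TensorProduct.congr AlgEquiv.refl
      ((AlgEquiv.ofBijective (Algebra.ofId (A ⧸ a.asIdeal) K)
        (Ideal.bijective_algebraMap_quotient_residueField a.asIdeal)).restrictScalars A)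
  have := isReduced_of_injective ((e2.toRingEquiv.toRingHom).comp e1.toRingEquiv.toRingHom)
    (e2.injective.comp e1.injective)
  rwa [ha, hπ, Ideal.map_span, Set.image_singleton] at this

/-- An open morphism to a DVR with reduced closed fibre and connected source has connected generic
fibre. -/
theorem preconnectedSpace_generic_fibre {X : Scheme.{u}} (f : X ⟶ Spec (CommRingCat.of A))
    (hopen : IsOpenMap f.base) [PreconnectedSpace X] (a b : ↥(Spec (CommRingCat.of A)))
    (ha : IsClosed ({a} : Set ↥(Spec (CommRingCat.of A)))) (hb : ∀ z, b ⤳ z)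
    (hred : AlgebraicGeometry.IsReduced (f.fiber a)) : PreconnectedSpace ↥(f.fiber b) := by
  obtain ⟨π, hπ⟩ := IsDiscreteValuationRing.exists_irreducible A
  have hbot := eq_bot_of_forall_specializes A b hb
  have hb' : ({b} : Set ↥(Spec (CommRingCat.of A))) = (PrimeSpectrum.basicOpen π : Set (PrimeSpectrum A)) := by
    ext z
    constructor
    · intro hzb
      obtain rfl : z = b := hzb
      show π ∉ z.asIdeal
      rw [hbot]; exact hπ.ne_zero
    · intro (hz : π ∉ z.asIdeal)
      refine PrimeSpectrum.ext ?_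
      rw [hbot]
      by_contra hne
      haveI := z.2
      exact hz ((IsLocalRing.eq_maximalIdeal (Ideal.IsPrime.isMaximal z.2 hne)).ge
        ((IsLocalRing.mem_maximalIdeal π).2 hπ.not_isUnit))
  let Xb : Set X := f ⁻¹' {b}
  have hXbo : IsOpen Xb := IsOpen.preimage f.continuous (hb' ▸ (PrimeSpectrum.basicOpen π).2)
  have hdense : ∀ O : Set X, IsOpen O → O.Nonempty → (O ∩ Xb).Nonempty := by
    intro O hO ⟨o, ho⟩
    obtain ⟨w, hw, hwb⟩ := (hb (f o)).mem_open (hopen O hO) ⟨o, ho, rfl⟩
    exact ⟨w, hw, hwb⟩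
  suffices _root_.IsPreconnected Xb by
    haveI : PreconnectedSpace (f ⁻¹' {b}) := isPreconnected_iff_preconnectedSpace.1 this
    exact (f.fiberHomeo b).symm.surjective.denseRange.preconnectedSpace (f.fiberHomeo b).symm.continuous
  intro U V hU hV hUV ⟨u, hu, huU⟩ ⟨v, hv, hvV⟩
  by_contra hne
  rw [Set.not_nonempty_iff_eq_empty] at hne
  let U₁ := U ∩ Xb
  let V₁ := V ∩ Xb
  have hcover : closure U₁ ∪ closure V₁ = Set.univ := by
    refine Set.eq_univ_of_forall fun z => ?_
    rw [← closure_union]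
    refine mem_closure_iff.2 fun O hO hz => ?_
    obtain ⟨w, hwO, hw⟩ := hdense O hO ⟨z, hz⟩
    exact ⟨w, hwO, (hUV hw).imp (fun h => ⟨h, hw⟩) fun h => ⟨h, hw⟩⟩
  obtain ⟨x, -, hxU, hxV⟩ := isPreconnected_univ (α := X) |> fun h => (isPreconnected_closed_iff.1 h)
    (closure U₁) (closure V₁) isClosed_closure isClosed_closure hcover.ge
    ⟨u, trivial, subset_closure ⟨huU, hu⟩⟩ ⟨v, trivial, subset_closure ⟨hvV, hv⟩⟩
  obtain ⟨(W : X.Opens), (hW : IsAffineOpen W), hxW, -⟩ := Opens.isBasis_iff_nbhd.mp X.isBasis_affineOpens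
    (show x ∈ (⊤ : X.Opens) from trivial)
  let R := Γ(X, W)
  let j : Spec R ⟶ X := hW.fromSpec
  obtain ⟨φ, hφ⟩ := Spec.map_surjective (j ≫ f)
  have hπb : ∀ z : Spec R, j z ∈ Xb ↔ φ.hom π ∉ z.asIdeal := fun z => by
    show f (j z) ∈ ({b} : Set ↥(Spec (CommRingCat.of A))) ↔ _
    rw [hb', ← Scheme.Hom.comp_apply, ← hφ]
    rfl
  obtain ⟨z, rfl⟩ : x ∈ Set.range j := by rw [hW.range_fromSpec]; exact hxW
  have hd : ∀ r : R, IsNilpotent (φ.hom π * r) → IsNilpotent r := by
    intro r hr
    rw [← mem_nilradical, nilradical_eq_sInf, Submodule.mem_sInf]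
    intro P hP
    by_contra hrP
    obtain ⟨w, ⟨⟨q, hq, rfl⟩, hwb⟩⟩ := hdense _ (j.isOpenEmbedding.isOpenMap _ (PrimeSpectrum.basicOpen r).2)
      ⟨_, ⟨⟨P, hP⟩, hrP, rfl⟩⟩
    obtain ⟨m, hm⟩ := hr
    exact (q.2.mem_or_mem (q.2.mem_of_pow_mem m (hm ▸ zero_mem _))).elim ((hπb q).1 hwb) hq
  have hR : _root_.IsReduced (R ⧸ Ideal.span {φ.hom π}) :=
    isReduced_quotient_of_fibre A f a (eq_closedPoint_of_isClosed A a ha) hred j φ hφ π hπ.maximalIdeal_eq
  have hdiff : ((PrimeSpectrum.basicOpen (φ.hom π) : Set (PrimeSpectrum R)) \ (j ⁻¹' U₁)) = j ⁻¹' V₁ := by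
    ext q
    simp only [U₁, V₁, Set.mem_sdiff, Set.mem_preimage, Set.mem_inter_iff, SetLike.mem_coe, PrimeSpectrum.mem_basicOpen, ← hπb]
    constructor
    · rintro ⟨hq, hnU⟩
      exact ⟨(hUV hq).resolve_left fun h => hnU ⟨h, hq⟩, hq⟩
    · rintro ⟨hqV, hq⟩
      exact ⟨hq, fun h => Set.eq_empty_iff_forall_notMem.1 hne _ ⟨hq, h.1, hqV⟩⟩
  obtain ⟨B, hB, hBU⟩ := exists_isClopen_spread (φ.hom π) hd hR (j ⁻¹' U₁)
    ((hU.inter hXbo).preimage j.continuous)
    (by rw [hdiff]; exact (hV.inter hXbo).preimage j.continuous)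
  have hopenj := j.isOpenEmbedding.isOpenMap
  by_cases hzB : z ∈ B
  · obtain ⟨_, ⟨q, hqB, rfl⟩, hqV, hqb⟩ := mem_closure_iff.1 hxV _ (hopenj _ hB.isOpen) ⟨z, hzB, rfl⟩
    have := hBU.le ⟨hqB, (hπb q).1 hqb⟩
    exact Set.eq_empty_iff_forall_notMem.1 hne _ ⟨hqb, this.1.1, hqV⟩
  · obtain ⟨_, ⟨q, hqB, rfl⟩, hqU, hqb⟩ := mem_closure_iff.1 hxU _ (hopenj _ hB.isClosed.isOpen_compl) ⟨z, hzB, rfl⟩
    exact hqB (hBU.ge ⟨⟨hqU, hqb⟩, (hπb q).1 hqb⟩).1

end dvr

end Groth.Agent.H06Conn
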