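import Groth.Agent.H06Conn.Specialization
import Groth.Agent.H28NT.EtaleDVR
import Groth.Agent.H11Val.Point

/-!
The geometric number of connected components of a proper morphism along a specialization.
-/

open CategoryTheory CategoryTheory.Limits AlgebraicGeometry TopologicalSpace Topology IsLocalRing

universe u

namespace Groth.Agent.H06Conn

set_option backward.isDefEq.respectTransparency false
set_option linter.style.haveILetI false

theorem specMap_square {R A B C : Type u} [CommRing R] [CommRing A] [CommRing B] [CommRing C] {Y : Scheme.{u}}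
    (α : R →+* A) (φ : A →+* C) (β : R →+* B) (ψ : B →+* C) (h : Spec (CommRingCat.of R) ⟶ Y)
    (w : φ.comp α = ψ.comp β) :
    Spec.map (CommRingCat.ofHom φ) ≫ Spec.map (CommRingCat.ofHom α) ≫ h =
      Spec.map (CommRingCat.ofHom ψ) ≫ Spec.map (CommRingCat.ofHom β) ≫ h := by
  rw [← Spec.map_comp_assoc, ← Spec.map_comp_assoc, ← CommRingCat.ofHom_comp, ← CommRingCat.ofHom_comp, w]

theorem specMap_comp_assoc {R A B : Type u} [CommRing R] [CommRing A] [CommRing B] {Y : Scheme.{u}}
    (α : R →+* A) (φ : A →+* B) (h : Spec (CommRingCat.of R) ⟶ Y) :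
    Spec.map (CommRingCat.ofHom (φ.comp α)) ≫ h = Spec.map (CommRingCat.ofHom φ) ≫ Spec.map (CommRingCat.ofHom α) ≫ h := by
  rw [← Spec.map_comp_assoc, ← CommRingCat.ofHom_comp]

variable {X Y : Scheme.{u}} [IsLocallyNoetherian Y] (f : X ⟶ Y) [LocallyOfFiniteType f] [QuasiCompact f]

set_option maxHeartbeats 1000000 in
/-- A specialization is realized by a discrete valuation ring which splits both geometric numbers of components. -/
theorem exists_splitting_dvr {y' y : Y} (h : y' ⤳ y) (hne : y' ≠ y) :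
    ∃ (A : Type u) (_ : CommRing A) (_ : IsDomain A) (_ : IsDiscreteValuationRing A)
      (g : Spec (CommRingCat.of A) ⟶ Y), g (closedPoint A) = y ∧
      g (⟨⊥, Ideal.isPrime_bot⟩ : PrimeSpectrum A) = y' ∧
      MoreMor.nGeomConnComp f y ≤ ENat.card (_root_.ConnectedComponents ↥(pullback f (closedι ≫ g))) ∧
      MoreMor.nGeomConnComp f y' ≤ ENat.card (_root_.ConnectedComponents ↥(pullback f (genFrac ≫ g))) := by
  obtain ⟨A₀, h₀, hA₀, hh₀, hgen₀⟩ := H11Val.exists_dvr_hom_through (𝟙 Y) y' y h hne.symm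
  rw [Category.comp_id] at hgen₀
  haveI := hA₀
  let c₀ : Spec (CommRingCat.of (ResidueField A₀)) ⟶ Y := Spec.map (CommRingCat.ofHom (residue A₀)) ≫ h₀
  have hc₀ : c₀ (closedPoint _) = y := by
    refine Eq.trans ?_ hh₀
    rw [Scheme.Hom.comp_apply]
    exact congrArg h₀ (closedι_apply (A := A₀) _)
  obtain ⟨F, _, _, _, _, hF⟩ := exists_finite_separable_connected f c₀
  rw [hc₀] at hF
  obtain ⟨S, _, _, _, _, _, _, -, e, he⟩ := H28NT.exists_dvr_residueField A₀ F
  let K₁ := FractionRing S
  have hinj : Function.Injective ((algebraMap S K₁).comp (algebraMap A₀ S)) :=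
    (IsFractionRing.injective S K₁).comp (FaithfulSMul.algebraMap_injective A₀ S)
  let j₁ : Y.residueField y' →+* K₁ := IsFractionRing.lift hinj
  have hj : ∀ a : A₀, j₁ (algebraMap A₀ (Y.residueField y') a) = algebraMap S K₁ (algebraMap A₀ S a) := fun a =>
    IsFractionRing.lift_algebraMap (A := A₀) (K := Y.residueField y') hinj a
  let a₁ : Spec (CommRingCat.of K₁) ⟶ Y := Spec.map (CommRingCat.ofHom j₁) ≫ Y.fromSpecResidueField y'
  have ha₁ : a₁ (closedPoint K₁) = y' := by
    rw [Scheme.Hom.comp_apply]; exact Scheme.fromSpecResidueField_apply _ _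
  obtain ⟨K₂, _, _, _, hK₂⟩ := exists_finite_connected f a₁
  rw [ha₁] at hK₂
  letI : Algebra S K₂ := ((algebraMap K₁ K₂).comp (algebraMap S K₁)).toAlgebra
  haveI : IsScalarTower S K₁ K₂ := IsScalarTower.of_algebraMap_eq fun _ => rfl
  obtain ⟨V, hV, hVc⟩ := H11Val.exists_dvr_center_finite (B := S) K₁ K₂ (maximalIdeal S)
    (IsDiscreteValuationRing.not_a_field S)
  haveI := hV
  let σ : S →+* V := (algebraMap S K₂).codRestrict V.toSubring fun a => (hVc a).1
  haveI : IsLocalHom σ := ⟨fun a ha => by
    by_contra hn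
    exact ne_of_lt ((hVc a).2.1 ((mem_maximalIdeal _).2 hn)) ((V.valuation_eq_one_iff (σ a)).1 ha)⟩
  let α : A₀ →+* V := σ.comp (algebraMap A₀ S)
  let g : Spec (CommRingCat.of V) ⟶ Y := Spec.map (CommRingCat.ofHom α) ≫ h₀
  let β₀ : A₀ →+* F := (algebraMap (ResidueField A₀) F).comp (residue A₀)
  let ψF : F →+* ResidueField V := (ResidueField.map σ).comp e.symm.toRingHom
  have hcl : closedι (A := V) ≫ g = Spec.map (CommRingCat.ofHom ψF) ≫
      Spec.map (CommRingCat.ofHom (algebraMap (ResidueField A₀) F)) ≫ c₀ := by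
    refine (specMap_square α (residue V) β₀ ψF h₀ (RingHom.ext fun a => ?_)).trans ?_
    · have h := congrArg (ResidueField.map σ) (congrArg e.symm (he a))
      rw [RingEquiv.symm_apply_apply] at h
      exact h
    · exact congrArg (fun m => Spec.map (CommRingCat.ofHom ψF) ≫ m)
        (specMap_comp_assoc (residue A₀) (algebraMap (ResidueField A₀) F) h₀)
  have hgn : Spec.map (CommRingCat.ofHom V.subtype) ≫ g = Spec.map (CommRingCat.ofHom (algebraMap K₁ K₂)) ≫ a₁ := by
    refine (specMap_square α V.subtype (j₁.comp A₀.subtype) (algebraMap K₁ K₂) h₀ (RingHom.ext fun a => ?_)).trans ?_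
    · exact congrArg (algebraMap K₁ K₂) (hj a).symm
    · exact congrArg (fun m => Spec.map (CommRingCat.ofHom (algebraMap K₁ K₂)) ≫ m)
        ((specMap_comp_assoc A₀.subtype j₁ h₀).trans (congrArg (fun m => Spec.map (CommRingCat.ofHom j₁) ≫ m) hgen₀))
  obtain ⟨eF, heiso, heF⟩ := H11Val.map_fractionRing V K₂
  have hgen : genFrac (A := V) ≫ g = eF ≫ Spec.map (CommRingCat.ofHom (algebraMap K₁ K₂)) ≫ a₁ := by
    rw [← hgn, ← Category.assoc]
    exact congrArg (fun m => m ≫ g) heF.symm
  refine ⟨V, inferInstance, inferInstance, hV, g, ?_, ?_, ?_, ?_⟩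
  · have h : (closedι (A := V) ≫ g) (closedPoint _) = y := by
      rw [hcl, Scheme.Hom.comp_apply, Scheme.Hom.comp_apply]
      exact (congrArg c₀ (Subsingleton.elim (α := PrimeSpectrum (ResidueField A₀)) _ _)).trans hc₀
    rwa [Scheme.Hom.comp_apply, closedι_apply] at h
  · have h : (genFrac (A := V) ≫ g) (closedPoint _) = y' := by
      rw [hgen, Scheme.Hom.comp_apply, Scheme.Hom.comp_apply]
      exact (congrArg a₁ (Subsingleton.elim (α := PrimeSpectrum K₁) _ _)).trans ha₁
    rwa [Scheme.Hom.comp_apply, genFrac_apply] at h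
  · rw [hcl]
    exact hF.trans (card_le_of_comp f _ _)
  · rw [hgen]
    exact hK₂.trans (card_le_of_comp f _ _)

/-- For a proper morphism the number does not drop under generization from a point of universal openness. -/
theorem nGeomConnComp_le_of_specializes [IsSeparated f] [UniversallyClosed f] {y' y : Y} (h : y' ⤳ y)
    (hu : ∀ x : X, f x = y → EGA43.IsUnivOpenAt f x) :
    MoreMor.nGeomConnComp f y ≤ MoreMor.nGeomConnComp f y' := by
  rcases eq_or_ne y' y with rfl | hne
  · exact le_rfl
  obtain ⟨A, _, _, _, g, hg, hg', hy, hy'⟩ := exists_splitting_dvr f h hne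
  haveI : IsProper f := {}
  let q := pullback.snd f g
  let eq' : ∀ {T : Scheme.{u}} (ι : T ⟶ Spec (CommRingCat.of A)), pullback q ι ≅ pullback f (ι ≫ g) :=
    fun ι => pullbackLeftPullbackSndIso f g ι
  have hgen : MoreMor.nGeomConnComp f y' = ENat.card (_root_.ConnectedComponents ↥(pullback q (genPt (A := A)))) := by
    rw [H7Flat.GeomInt.card_connectedComponents_congr (eq' genPt).hom.homeomorph,
      (H7Flat.GeomInt.nGeom_eq f (genPt ≫ g) (y := y') (by rw [Scheme.Hom.comp_apply, genPt_apply, hg'])).2]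
  have hfrac : MoreMor.nGeomConnComp f y' ≤ ENat.card (_root_.ConnectedComponents ↥(pullback q (genFrac (A := A)))) :=
    hy'.trans_eq (H7Flat.GeomInt.card_connectedComponents_congr (eq' genFrac).hom.homeomorph).symm
  have ho : ∀ x : ↥(pullback f g), q x = (closedPoint A : Spec (CommRingCat.of A)) → EGA43.IsOpenAt q.base x := by
    intro x hx
    refine H06EGA14.isOpenAt_of_isPullback (hu (pullback.fst f g x) ?_) (IsPullback.of_hasPullback f g) x rfl
    rw [← Scheme.Hom.comp_apply, pullback.condition, Scheme.Hom.comp_apply, show pullback.snd f g x = _ from hx, hg]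
  calc MoreMor.nGeomConnComp f y
      ≤ ENat.card (_root_.ConnectedComponents ↥(pullback q (closedι (A := A)))) :=
        hy.trans_eq (H7Flat.GeomInt.card_connectedComponents_congr (eq' closedι).hom.homeomorph).symm
    _ ≤ ENat.card (_root_.ConnectedComponents ↥(pullback q (genFrac (A := A)))) :=
        card_closedFibre_le q ho (hgen.symm.trans_le hfrac)
    _ = ENat.card (_root_.ConnectedComponents ↥(pullback f (genFrac ≫ g))) :=
        H7Flat.GeomInt.card_connectedComponents_congr (eq' genFrac).hom.homeomorph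
    _ ≤ MoreMor.nGeomConnComp f ((genFrac ≫ g) (closedPoint _)) := card_le_nGeom f _
    _ = MoreMor.nGeomConnComp f y' := by rw [Scheme.Hom.comp_apply, genFrac_apply, hg']

/-- The geometric number of connected components is finite. -/
theorem nGeomConnComp_lt_top {Z W : Scheme.{u}} (p : Z ⟶ W) [LocallyOfFiniteType p] [QuasiCompact p] (w : W) :
    MoreMor.nGeomConnComp p w < ⊤ := by
  obtain ⟨Ω, _, _, a, rfl⟩ := H06EGA15.exists_geometric_point w
  haveI := finite_connectedComponents_fibre p a
  rw [← (H7Flat.GeomInt.nGeom_eq p a rfl).2, ENat.card_eq_coe_natCard]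
  exact ENat.coe_lt_top _

end Groth.Agent.H06Conn
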