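import Groth.Agent.H06Conn.ClosedFibre
import Groth.Agent.H06Conn.FiniteExtension
import Groth.Agent.H05EGA4.Topo
import Groth.Agent.H17.Reduced

/-!
The number of connected components of the closed fibre over a discrete valuation ring.
-/

open CategoryTheory CategoryTheory.Limits AlgebraicGeometry TopologicalSpace Topology IsLocalRing

universe u

namespace Groth.Agent.H06Conn

set_option backward.isDefEq.respectTransparency false
set_option linter.style.haveILetI false

section Cards

variable {X Y : Scheme.{u}} (f : X ⟶ Y)

/-- Enlarging the field does not lose components. -/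
theorem card_le_of_comp {E F : Type u} [Field E] [Field F] (a : Spec (CommRingCat.of E) ⟶ Y)
    (b : Spec (CommRingCat.of F) ⟶ Spec (CommRingCat.of E)) :
    ENat.card (_root_.ConnectedComponents ↥(pullback f a)) ≤
      ENat.card (_root_.ConnectedComponents ↥(pullback f (b ≫ a))) := by
  haveI : Surjective b := ⟨fun _ => ⟨closedPoint F, Subsingleton.elim (α := PrimeSpectrum E) _ _⟩⟩
  let m : pullback f (b ≫ a) ⟶ pullback f a :=
    (pullbackLeftPullbackSndIso f a b).inv ≫ pullback.fst (pullback.snd f a) b
  have hs : Function.Surjective m.continuous.connectedComponentsMap := by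
    intro c
    obtain ⟨x, rfl⟩ := ConnectedComponents.surjective_coe c
    obtain ⟨z, rfl⟩ := m.surjective x
    exact ⟨ConnectedComponents.mk z, rfl⟩
  exact ENat.card_le_card_of_injective (Function.injective_surjInv hs)

/-- No field has more components than the geometric number. -/
theorem card_le_nGeom {E : Type u} [Field E] (a : Spec (CommRingCat.of E) ⟶ Y) :
    ENat.card (_root_.ConnectedComponents ↥(pullback f a)) ≤ MoreMor.nGeomConnComp f (a (closedPoint E)) := by
  let b : Spec (CommRingCat.of (AlgebraicClosure E)) ⟶ Spec (CommRingCat.of E) :=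
    Spec.map (CommRingCat.ofHom (algebraMap E (AlgebraicClosure E)))
  refine (card_le_of_comp f a b).trans_eq ((H7Flat.GeomInt.nGeom_eq f (b ≫ a) rfl).2.trans ?_)
  rw [Scheme.Hom.comp_apply]
  congr 2
  exact Subsingleton.elim (α := PrimeSpectrum E) _ _

/-- Some finite separable extension reaches the geometric number of connected components. -/
theorem exists_finite_separable_connected [LocallyOfFiniteType f] [QuasiCompact f] {E : Type u} [Field E]
    (a : Spec (CommRingCat.of E) ⟶ Y) :
    ∃ (F : Type u) (_ : Field F) (_ : Algebra E F), FiniteDimensional E F ∧ Algebra.IsSeparable E F ∧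
      MoreMor.nGeomConnComp f (a (closedPoint E)) ≤
        ENat.card (_root_.ConnectedComponents ↥(pullback f (Spec.map (CommRingCat.ofHom (algebraMap E F)) ≫ a))) := by
  obtain ⟨F, _, _, _, hF⟩ := exists_finite_connected f a
  let G := separableClosure E F
  refine ⟨G, inferInstance, inferInstance, inferInstance, inferInstance, hF.trans ?_⟩
  let j : Spec (CommRingCat.of F) ⟶ Spec (CommRingCat.of G) := Spec.map (CommRingCat.ofHom (algebraMap G F))
  haveI : UniversallyInjective j := by
    refine ((tfae_universallyInjective j).out 1 0).mp ?_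
    intro K _ g₁ g₂ hg
    obtain ⟨φ₁, rfl⟩ := Spec.map_surjective g₁
    obtain ⟨φ₂, rfl⟩ := Spec.map_surjective g₂
    refine congrArg Spec.map (CommRingCat.hom_ext (IsPurelyInseparable.injective_comp_algebraMap G F K ?_))
    have h : CommRingCat.ofHom (algebraMap G F) ≫ φ₁ = CommRingCat.ofHom (algebraMap G F) ≫ φ₂ :=
      Spec.map_injective (by rw [Spec.map_comp, Spec.map_comp]; exact hg)
    exact congrArg CommRingCat.Hom.hom h
  haveI : IsIntegralHom j := by
    rw [IsIntegralHom.SpecMap_iff]
    exact (algebraMap_isIntegral_iff (R := G) (A := F)).mpr inferInstance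
  let a₁ := Spec.map (CommRingCat.ofHom (algebraMap E G)) ≫ a
  rw [show Spec.map (CommRingCat.ofHom (algebraMap E F)) ≫ a = j ≫ a₁ by
    rw [← Category.assoc, ← Spec.map_comp, ← CommRingCat.ofHom_comp]; rfl]
  haveI : UniversallyInjective (pullback.fst (pullback.snd f a₁) j) :=
    MorphismProperty.pullback_fst (P := @UniversallyInjective) _ _ inferInstance
  let m := pullback.fst (pullback.snd f a₁) j
  rw [← H7Flat.GeomInt.card_connectedComponents_congr (pullbackLeftPullbackSndIso f a₁ j).hom.homeomorph]
  refine ENat.card_le_card_of_injective (f := m.continuous.connectedComponentsMap) fun c d h => ?_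
  obtain ⟨x, rfl⟩ := ConnectedComponents.surjective_coe c
  obtain ⟨z, rfl⟩ := ConnectedComponents.surjective_coe d
  have h' : m x ∈ connectedComponent (m z) := ConnectedComponents.coe_eq_coe'.mp h
  haveI : Surjective j := ⟨fun _ => ⟨closedPoint F, Subsingleton.elim (α := PrimeSpectrum G) _ _⟩⟩
  have hpre : _root_.IsPreconnected (m ⁻¹' connectedComponent (m z)) :=
    (isConnected_connectedComponent.preimage_of_isClosedMap m.injective m.isClosedMap
      (fun w _ => m.surjective w)).2
  exact ConnectedComponents.coe_eq_coe'.mpr
    (hpre.subset_connectedComponent (show m z ∈ connectedComponent (m z) from mem_connectedComponent) h')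

end Cards

variable {A : Type u} [CommRing A] [IsDomain A] [IsDiscreteValuationRing A] {X : Scheme.{u}}
  (q : X ⟶ Spec (CommRingCat.of A))

/-- The generic point of the spectrum, valued in the fraction field. -/
noncomputable def genFrac : Spec (CommRingCat.of (FractionRing A)) ⟶ Spec (CommRingCat.of A) :=
  Spec.map (CommRingCat.ofHom (algebraMap A (FractionRing A)))

instance : IsPreimmersion (genFrac (A := A)) :=
  IsPreimmersion.of_isLocalization (R := A) (S := FractionRing A) (nonZeroDivisors A)

/-- The closed point, valued in the residue field. -/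
noncomputable def closedι : Spec (CommRingCat.of (ResidueField A)) ⟶ Spec (CommRingCat.of A) :=
  Spec.map (CommRingCat.ofHom (residue A))

instance : IsClosedImmersion (closedι (A := A)) := IsClosedImmersion.spec_of_surjective _ residue_surjective

theorem closedι_apply (p : Spec (CommRingCat.of (ResidueField A))) :
    closedι p = (closedPoint A : Spec (CommRingCat.of A)) := by
  refine PrimeSpectrum.ext ?_
  show Ideal.comap (residue A) (p : PrimeSpectrum (ResidueField A)).asIdeal = maximalIdeal A
  rw [show (p : PrimeSpectrum (ResidueField A)).asIdeal = ⊥ from (eq_bot_or_eq_top _).resolve_right p.isPrime.ne_top,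
    ← RingHom.ker_eq_comap_bot, ker_residue]

theorem genFrac_apply (p : Spec (CommRingCat.of (FractionRing A))) :
    genFrac p = (⟨⊥, Ideal.isPrime_bot⟩ : PrimeSpectrum A) := by
  refine PrimeSpectrum.ext ?_
  show Ideal.comap (algebraMap A (FractionRing A)) (p : PrimeSpectrum (FractionRing A)).asIdeal = ⊥
  rw [show (p : PrimeSpectrum (FractionRing A)).asIdeal = ⊥ from (eq_bot_or_eq_top _).resolve_right p.isPrime.ne_top,
    ← RingHom.ker_eq_comap_bot, ← RingHom.injective_iff_ker_eq_bot]
  exact IsFractionRing.injective A (FractionRing A)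

/-- The map from the geometric generic fibre to the generic one. -/
noncomputable def toGen : pullback q (genPt (A := A)) ⟶ pullback q (genFrac (A := A)) :=
  pullback.lift (pullback.fst _ _)
    (pullback.snd _ _ ≫ Spec.map (CommRingCat.ofHom (algebraMap (FractionRing A) (AlgebraicClosure (FractionRing A)))))
    (by
      rw [Category.assoc, genFrac, ← Spec.map_comp, ← CommRingCat.ofHom_comp, ← IsScalarTower.algebraMap_eq]
      exact pullback.condition)

theorem toGen_surjective : Function.Surjective (toGen q) := by
  intro x
  obtain ⟨z, hz, -⟩ := Scheme.Pullback.exists_preimage_pullback (f := q) (g := genPt (A := A))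
    (pullback.fst q genFrac x) (closedPoint _)
    (by rw [← Scheme.Hom.comp_apply, pullback.condition, Scheme.Hom.comp_apply, genFrac_apply, genPt_apply])
  refine ⟨z, (pullback.fst q (genFrac (A := A))).isEmbedding.injective ?_⟩
  rw [← Scheme.Hom.comp_apply, toGen, pullback.lift_fst, hz]

variable [IsProper q]

/-- The closed fibre has at most as many components as the generic fibre, when these are geometrically connected. -/
theorem card_closedFibre_le (ho : ∀ x : X, q x = (closedPoint A : Spec (CommRingCat.of A)) → EGA43.IsOpenAt q.base x)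
    (hsplit : ENat.card (_root_.ConnectedComponents ↥(pullback q (genPt (A := A)))) ≤
      ENat.card (_root_.ConnectedComponents ↥(pullback q (genFrac (A := A))))) :
    ENat.card (_root_.ConnectedComponents ↥(pullback q (closedι (A := A)))) ≤
      ENat.card (_root_.ConnectedComponents ↥(pullback q (genFrac (A := A)))) := by
  classical
  set G := pullback q (genFrac (A := A))
  set ιG := pullback.fst q (genFrac (A := A))
  set S := pullback q (closedι (A := A))
  set ιS := pullback.fst q (closedι (A := A))
  have hιG : ∀ z, q (ιG z) = (⟨⊥, Ideal.isPrime_bot⟩ : PrimeSpectrum A) := fun z => by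
    rw [← Scheme.Hom.comp_apply, pullback.condition, Scheme.Hom.comp_apply, genFrac_apply]
  have hιS : Set.range ιS = q ⁻¹' {(closedPoint A : Spec (CommRingCat.of A))} := by
    rw [Scheme.Pullback.range_fst]
    congr 1
    exact Set.eq_singleton_iff_unique_mem.mpr ⟨⟨closedPoint _, closedι_apply _⟩, by rintro _ ⟨p, rfl⟩; exact closedι_apply p⟩
  haveI : Finite (_root_.ConnectedComponents ↥(pullback q (genPt (A := A)))) := finite_connectedComponents_fibre q _
  haveI : Finite (_root_.ConnectedComponents ↥G) := finite_connectedComponents_fibre q _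
  have hinj : Function.Injective (toGen q).continuous.connectedComponentsMap := by
    have hs : Function.Surjective (toGen q).continuous.connectedComponentsMap := by
      intro c
      obtain ⟨x, rfl⟩ := ConnectedComponents.surjective_coe c
      obtain ⟨z, rfl⟩ := toGen_surjective q x
      exact ⟨ConnectedComponents.mk z, rfl⟩
    rw [ENat.card_eq_coe_natCard, ENat.card_eq_coe_natCard, ENat.coe_le_coe] at hsplit
    exact ((Nat.bijective_iff_surjective_and_card _).mpr
      ⟨hs, le_antisymm hsplit (Nat.card_le_card_of_surjective _ hs)⟩).1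
  have hq : ∀ c : _root_.ConnectedComponents ↥G, ∃ s : S, ∀ z : G, ConnectedComponents.mk z = c →
      ∀ x : S, ιG z ⤳ ιS x → ConnectedComponents.mk x = ConnectedComponents.mk s := by
    intro c
    obtain ⟨z₀, rfl⟩ := ConnectedComponents.surjective_coe c
    set C : Set G := connectedComponent z₀
    haveI : IsNoetherianRing (CommRingCat.of (FractionRing A)) := inferInstanceAs (IsNoetherianRing (FractionRing A))
    let j := (Scheme.IdealSheafData.vanishingIdeal ⟨C, isClosed_connectedComponent⟩).subschemeι
    let i := (Scheme.IdealSheafData.vanishingIdeal ⟨closure (ιG '' C), isClosed_closure⟩).subschemeι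
    have hj : Set.range j = C := by
      rw [Scheme.IdealSheafData.range_subschemeι, Scheme.IdealSheafData.coe_support_vanishingIdeal]; rfl
    have hi : Set.range i = closure (ιG '' C) := by
      rw [Scheme.IdealSheafData.range_subschemeι, Scheme.IdealSheafData.coe_support_vanishingIdeal]; rfl
    haveI : IsReduced (Scheme.IdealSheafData.vanishingIdeal ⟨closure (ιG '' C), isClosed_closure⟩).subscheme :=
      H17.isReduced_vanishingIdeal_subscheme _
    have hgen : HasGenericGenerization (i ≫ q) := by
      intro w
      have hw : i w ∈ closure (Set.range (j ≫ ιG)) := by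
        rw [Scheme.Hom.comp_base, TopCat.coe_comp, Set.range_comp, hj]
        exact hi.le ⟨w, rfl⟩
      haveI : QuasiCompact (genFrac (A := A)) := inferInstance
      obtain ⟨z, hz⟩ := H05EGA4.exists_specializes_of_mem_closure_range (j ≫ ιG) hw
      obtain ⟨η, hη⟩ : (j ≫ ιG) z ∈ Set.range i := hi.ge (subset_closure ⟨j z, hj.le ⟨z, rfl⟩, rfl⟩)
      refine ⟨η, i.isClosedEmbedding.isInducing.specializes_iff.mp (hη ▸ hz), ?_⟩
      rw [Scheme.Hom.comp_apply, hη, Scheme.Hom.comp_apply]
      exact hιG _
    haveI : ConnectedSpace ↥(pullback (i ≫ q) (genPt (A := A))) := by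
      let e := pullbackRightPullbackFstIso q (genPt (A := A)) i
      refine e.hom.homeomorph.connectedSpace_iff.mp ?_
      let p := pullback.snd i (pullback.fst q (genPt (A := A)))
      have hr : Set.range p = toGen q ⁻¹' C := by
        rw [Scheme.Pullback.range_snd, hi]
        ext z
        rw [Set.mem_preimage, Set.mem_preimage,
          show pullback.fst q (genPt (A := A)) z = ιG (toGen q z) by rw [← Scheme.Hom.comp_apply, toGen, pullback.lift_fst]]
        exact Set.ext_iff.mp ((ιG.isEmbedding.closure_eq_preimage_closure_image C).symm.trans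
          isClosed_connectedComponent.closure_eq) (toGen q z)
      obtain ⟨w₀, hw₀⟩ := toGen_surjective q z₀
      have hw₀C : w₀ ∈ toGen q ⁻¹' C := show toGen q w₀ ∈ C from hw₀ ▸ mem_connectedComponent
      haveI : ConnectedSpace ↥(Set.range p) := isConnected_iff_connectedSpace.mp (by
        rw [hr]
        refine ⟨⟨w₀, hw₀C⟩, ?_⟩
        have hsub : toGen q ⁻¹' C = connectedComponent w₀ := by
          refine Set.Subset.antisymm (fun w hw => ?_)
            ((Continuous.mapsTo_connectedComponent (toGen q).continuous w₀).mono_right (show connectedComponent (toGen q w₀) ⊆ C by rw [hw₀]))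
          rw [← ConnectedComponents.coe_eq_coe']
          refine hinj ?_
          show ConnectedComponents.mk (toGen q w) = ConnectedComponents.mk (toGen q w₀)
          rw [hw₀, ConnectedComponents.coe_eq_coe']
          exact hw
        rw [hsub]
        exact isPreconnected_connectedComponent)
      exact p.isClosedEmbedding.isEmbedding.toHomeomorph.symm.surjective.connectedSpace
        p.isClosedEmbedding.isEmbedding.toHomeomorph.symm.continuous
    have hpre := (isPreconnected_closedFibre (i ≫ q) hgen).image i i.continuous.continuousOn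
    have hsub : i '' ((i ≫ q) ⁻¹' {(closedPoint A : Spec (CommRingCat.of A))}) ⊆ Set.range ιS := by
      rintro _ ⟨w, hw, rfl⟩
      rw [hιS]
      exact hw
    have hpre' : _root_.IsPreconnected (ιS ⁻¹' (i '' ((i ≫ q) ⁻¹' {(closedPoint A : Spec (CommRingCat.of A))}))) := by
      rw [← ιS.isEmbedding.isInducing.isPreconnected_image, Set.image_preimage_eq_of_subset hsub]
      exact hpre
    obtain ⟨x₀, hx₀, hqx₀⟩ : ∃ x₀ ∈ closure (ιG '' C), q x₀ = (closedPoint A : Spec (CommRingCat.of A)) := by
      have := q.isClosedMap _ (isClosed_closure (s := ιG '' C))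
      obtain ⟨x₀, hx₀, h⟩ := (IsLocalRing.specializes_closedPoint (q (ιG z₀) : PrimeSpectrum A)).mem_closed this
        ⟨ιG z₀, subset_closure ⟨z₀, mem_connectedComponent, rfl⟩, rfl⟩
      exact ⟨x₀, hx₀, h⟩
    obtain ⟨s, hs⟩ := hιS.ge hqx₀
    refine ⟨s, fun z hz x hzx => ConnectedComponents.coe_eq_coe'.mpr (hpre'.subset_connectedComponent ?_ ?_)⟩
    · obtain ⟨w, hw⟩ := hi.ge hx₀
      exact ⟨w, by show (i ≫ q) w = _; rw [Scheme.Hom.comp_apply, hw, hqx₀], hw.trans hs.symm⟩
    · have hx : ιS x ∈ closure (ιG '' C) :=
        closure_mono (show ({ιG z} : Set X) ⊆ ιG '' C from Set.singleton_subset_iff.mpr ⟨z, ConnectedComponents.coe_eq_coe'.mp hz, rfl⟩)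
          (specializes_iff_mem_closure.mp hzx)
      obtain ⟨w, hw⟩ := hi.ge hx
      exact ⟨w, by show (i ≫ q) w = _; rw [Scheme.Hom.comp_apply, hw]; exact hιS.le ⟨x, rfl⟩, hw⟩
  choose s hs using hq
  have hsurj : Function.Surjective fun c => ConnectedComponents.mk (s c) := by
    intro d
    obtain ⟨x, rfl⟩ := ConnectedComponents.surjective_coe d
    have hx : q (ιS x) = (closedPoint A : Spec (CommRingCat.of A)) := hιS.le ⟨x, rfl⟩
    obtain ⟨z, hz⟩ : ∃ z : G, ιG z ⤳ ιS x := by
      haveI : QuasiCompact (genFrac (A := A)) := inferInstance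
      refine H05EGA4.exists_specializes_of_mem_closure_range ιG (mem_closure_iff_nhds.mpr fun O hO => ?_)
      obtain ⟨O', hO', hO'o, hcl⟩ := mem_nhds_iff.mp (hx ▸ ho (ιS x) hx O hO)
      obtain ⟨y, hy, hqy⟩ := hO' ((IsLocalRing.specializes_closedPoint
        (genFrac (A := A) (closedPoint _) : PrimeSpectrum A)).mem_open hO'o hcl)
      obtain ⟨z, hz, -⟩ := Scheme.Pullback.exists_preimage_pullback (f := q) (g := genFrac (A := A)) y _ hqy
      exact ⟨y, hy, z, hz⟩
    exact ⟨ConnectedComponents.mk z, (hs _ z rfl x hz).symm⟩
  exact ENat.card_le_card_of_injective (Function.injective_surjInv hsurj)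

end Groth.Agent.H06Conn
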